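import Mathlib.GroupTheory.GroupAction.Quotient
import Mathlib.GroupTheory.Sylow
import Mathlib.GroupTheory.Subgroup.Simple
import Mathlib.Algebra.BigOperators.Fin
import Mathlib.Tactic.NormNum.Prime
import Mathlib.Tactic.Linarith
import Mathlib.Tactic.Group

/-!
# A group on 7128 points with a simple modulo three point stabiliser is simple modulo three
-/

set_option autoImplicit false
set_option maxRecDepth 4000

namespace CfsgLib.LyThree

open MulAction Subgroup

/-- The five suborbit lengths. -/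
def subLen : Fin 5 → ℕ := ![1, 252, 750, 2625, 3500]

theorem subLen_sum : ∀ T : Finset (Fin 5), (0 : Fin 5) ∈ T → (∑ i ∈ T, subLen i) ∣ 7128 →
    T = {0} ∨ T = Finset.univ := by
  decide +kernel

/-- The hypotheses on the action. -/
structure CoreData (C : Type*) [Group C] (α : Type*) [MulAction C α] (p₀ : α) (Z : Subgroup C) where
  z_le : Z ≤ stabilizer C p₀
  z_card : Nat.card Z = 3
  z_central : Z ≤ center C
  u_card : Nat.card (stabilizer C p₀) = 378000
  piece : Fin 5 → α
  piece_zero : piece 0 = p₀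
  piece_len : ∀ i, Nat.card (orbit (stabilizer C p₀) (piece i)) = subLen i
  piece_cover : ∀ p, ∃ i, p ∈ orbit (stabilizer C p₀) (piece i)
  piece_inj : ∀ i j p, p ∈ orbit (stabilizer C p₀) (piece i) →
    p ∈ orbit (stabilizer C p₀) (piece j) → i = j
  u_simple : ∀ M : Subgroup C, Z ≤ M → M ≤ stabilizer C p₀ →
    (∀ u ∈ stabilizer C p₀, ∀ m ∈ M, u * m * u⁻¹ ∈ M) → M = Z ∨ M = stabilizer C p₀

namespace CoreData

variable {C : Type*} [Group C] [Finite C] {α : Type*} [MulAction C α] [IsPretransitive C α] {p₀ : α}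
  {Z : Subgroup C} (D : CoreData C α p₀ Z)
include D

omit [IsPretransitive C α] in
theorem card_union (T : Finset (Fin 5)) :
    Nat.card ↥(⋃ i : {i // i ∈ T}, orbit (stabilizer C p₀) (D.piece i.1)) = ∑ i ∈ T, subLen i := by
  haveI : ∀ i : Fin 5, Finite (orbit (stabilizer C p₀) (D.piece i)) := fun i =>
    (Set.finite_range _).to_subtype
  rw [Nat.card_congr (Set.unionEqSigmaOfDisjoint fun i j hij =>
    Set.disjoint_left.2 fun p hi hj => hij (Subtype.ext (D.piece_inj _ _ p hi hj))), Nat.card_sigma,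
    Finset.sum_coe_sort T fun i => Nat.card (orbit (stabilizer C p₀) (D.piece i))]
  exact Finset.sum_congr rfl fun i _ => D.piece_len i

theorem index_stab : (stabilizer C p₀).index = 7128 := by
  have h := D.card_union Finset.univ
  rw [index_stabilizer_of_transitive]
  rw [show (⋃ i : {i // i ∈ (Finset.univ : Finset (Fin 5))}, orbit (stabilizer C p₀) (D.piece i.1)) =
    Set.univ from Set.eq_univ_of_forall fun p => by
      obtain ⟨i, hi⟩ := D.piece_cover p
      exact Set.mem_iUnion.2 ⟨⟨i, Finset.mem_univ i⟩, hi⟩, Nat.card_coe_set_eq, Set.ncard_univ] at h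
  exact h.trans (by decide +kernel)

theorem card_group : Nat.card C = 378000 * 7128 := by
  rw [← Subgroup.card_mul_index (stabilizer C p₀), D.u_card, D.index_stab]

theorem stab_maximal {L : Subgroup C} (h : stabilizer C p₀ ≤ L) :
    L = stabilizer C p₀ ∨ L = ⊤ := by
  classical
  set T := Finset.univ.filter fun i => D.piece i ∈ orbit L p₀
  have hS : orbit L p₀ = ⋃ i : {i // i ∈ T}, orbit (stabilizer C p₀) (D.piece i.1) := by
    ext p
    rw [Set.mem_iUnion]
    constructor
    · intro hp
      obtain ⟨i, ⟨u, hu⟩, hi⟩ := D.piece_cover p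
      refine ⟨⟨i, Finset.mem_filter.2 ⟨Finset.mem_univ i, ?_⟩⟩, ⟨u, hu⟩, hi⟩
      obtain ⟨⟨l, hl⟩, e⟩ := hp
      refine ⟨⟨u⁻¹ * l, mul_mem (inv_mem (h hu)) hl⟩, ?_⟩
      change (u⁻¹ * l) • p₀ = D.piece i
      rw [mul_smul, show l • p₀ = p from e, ← show u • D.piece i = p from hi, inv_smul_smul]
    · rintro ⟨⟨i, hi⟩, ⟨u, hu⟩, rfl⟩
      obtain ⟨⟨l, hl⟩, e⟩ := (Finset.mem_filter.1 hi).2
      refine ⟨⟨u * l, mul_mem (h hu) hl⟩, ?_⟩
      change (u * l) • p₀ = u • D.piece i
      rw [mul_smul, show l • p₀ = D.piece i from e]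
  have hn : Nat.card (orbit L p₀) = (stabilizer L p₀).index := by
    rw [index_stabilizer, Nat.card_coe_set_eq]
  have hst : stabilizer L p₀ = (stabilizer C p₀).subgroupOf L := by
    ext g
    simp [mem_subgroupOf, Subgroup.smul_def]
  have hd : (stabilizer C p₀).relIndex L * L.index = 7128 := by
    rw [relIndex_mul_index h, D.index_stab]
  rw [hS, D.card_union T, hst] at hn
  rcases subLen_sum T (Finset.mem_filter.2 ⟨Finset.mem_univ _, by rw [D.piece_zero]; exact mem_orbit_self p₀⟩)
    (hn ▸ Dvd.intro _ hd) with e | e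
  · left
    refine le_antisymm ?_ h
    rw [← relIndex_eq_one]
    rw [relIndex, ← hn, e, Finset.sum_singleton]
    rfl
  · right
    have h1 : (stabilizer C p₀).relIndex L = 7128 := by
      rw [relIndex, ← hn, e]
      decide +kernel
    rw [h1] at hd
    exact index_eq_one.1 (by omega)

theorem stab_not_normal : ¬(stabilizer C p₀).Normal := by
  intro hn
  have h1 : ∀ p, p ∈ orbit (stabilizer C p₀) (D.piece 1) → p = D.piece 1 := by
    rintro p ⟨⟨u, hu⟩, rfl⟩
    obtain ⟨c, hc⟩ := exists_smul_eq C p₀ (D.piece 1)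
    have := hn.conj_mem u hu c⁻¹
    rw [mem_stabilizer_iff, inv_inv, mul_smul, mul_smul, inv_smul_eq_iff, hc] at this
    exact this
  have h2 : orbit (stabilizer C p₀) (D.piece 1) = {D.piece 1} :=
    Set.Subset.antisymm h1 (by simp [mem_orbit_self])
  have := D.piece_len 1
  rw [h2] at this
  simp [subLen] at this

theorem orbit_large {p : α} (hp : p ≠ p₀) :
    252 ≤ Nat.card (orbit (stabilizer C p₀) p) := by
  obtain ⟨i, hi⟩ := D.piece_cover p
  rw [orbit_eq_iff.2 hi, D.piece_len]
  have : i ≠ 0 := fun h => hp <| by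
    subst h
    rw [D.piece_zero] at hi
    obtain ⟨⟨u, hu⟩, rfl⟩ := hi
    exact mem_stabilizer_iff.1 hu
  have key : ∀ i : Fin 5, i ≠ 0 → 252 ≤ subLen i := by decide +kernel
  exact key i this

theorem orbit_le_elements {N : Subgroup C} [N.Normal] {n : N} (hn : orderOf n = 11) :
    Nat.card (orbit (stabilizer C p₀) ((n : C) • p₀)) ≤ Nat.card {t : N // orderOf t = 11} := by
  haveI : Finite ↥N := inferInstance
  have hsub : orbit (stabilizer C p₀) ((n : C) • p₀) ⊆
      Set.range fun t : {t : N // orderOf t = 11} => (t.1 : C) • p₀ := by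
    rintro _ ⟨⟨u, hu⟩, rfl⟩
    refine ⟨⟨⟨u * n * u⁻¹, Subgroup.Normal.conj_mem ‹_› _ n.2 u⟩, ?_⟩, ?_⟩
    · exact (Subgroup.orderOf_coe _).symm.trans ((MulEquiv.orderOf_eq (MulAut.conj u) (n : C)).trans
        ((Subgroup.orderOf_coe n).trans hn))
    · change (u * (n : C) * u⁻¹) • p₀ = u • (n : C) • p₀
      rw [mul_smul, mul_smul, inv_smul_eq_iff.2 (mem_stabilizer_iff.1 hu).symm]
  calc Nat.card (orbit (stabilizer C p₀) ((n : C) • p₀))
      = (orbit (stabilizer C p₀) ((n : C) • p₀)).ncard := Nat.card_coe_set_eq _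
    _ ≤ (Set.range fun t : {t : N // orderOf t = 11} => (t.1 : C) • p₀).ncard :=
        Set.ncard_le_ncard hsub (Set.finite_range _)
    _ ≤ _ := by
        rw [← Nat.card_coe_set_eq]
        exact Finite.card_range_le _

omit [IsPretransitive C α] in
theorem elements_le {N : Subgroup C} (hZ : Z ≤ N) (hc : Nat.card N = 21384) :
    Nat.card {t : N // orderOf t = 11} ≤ 132 := by
  haveI : Fact (Nat.Prime 11) := ⟨by norm_num⟩
  have hP : ∀ P : Sylow 11 N, Nat.card ↥(P : Subgroup N) ≤ 11 := fun P => by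
    obtain ⟨k, hk⟩ := IsPGroup.iff_card.1 P.2
    have hd := Subgroup.card_subgroup_dvd_card (P : Subgroup N)
    rw [hk, hc] at hd
    rw [hk]
    rcases k with _ | _ | k
    · norm_num
    · norm_num
    · have h2 := (Nat.pow_dvd_pow 11 (show 2 ≤ k + 2 by omega)).trans hd
      norm_num at h2
  have hs : Nat.card (Sylow 11 N) ≤ 12 := by
    let P : Sylow 11 N := default
    set M := normalizer (((P : Subgroup N) : Set N)) with hM
    have h1 : Nat.card (Sylow 11 N) = M.index := Sylow.card_eq_index_normalizer P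
    have hZM : Z.subgroupOf N ≤ M := by
      intro z hz
      have hzc : ∀ m : N, z * m = m * z := fun m => Subtype.ext
        (Subgroup.mem_center_iff.1 (D.z_central hz) m).symm
      exact centralizer_le_normalizer _ (mem_centralizer_iff.2 fun m _ => (hzc m).symm)
    have h3 : 3 ∣ Nat.card M := by
      have := Subgroup.card_dvd_of_le hZM
      rwa [Nat.card_congr (subgroupOfEquivOfLe hZ).toEquiv, D.z_card] at this
    have h11 : 11 ∣ Nat.card M := by
      have := Subgroup.card_dvd_of_le (Subgroup.le_normalizer (H := (P : Subgroup N)))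
      exact (dvd_trans (dvd_pow_self 11 one_ne_zero)
        (P.pow_dvd_card_of_pow_dvd_card (n := 1) (by rw [hc]; norm_num))).trans this
    obtain ⟨r, hr⟩ := Nat.Coprime.mul_dvd_of_dvd_of_dvd (by norm_num) h3 h11
    have hi : Nat.card M * M.index = 21384 := by rw [card_mul_index, hc]
    rw [hr] at hi
    have hd : M.index ∣ 648 := ⟨r, by
      have : 33 * (r * M.index) = 33 * 648 := by rw [← mul_assoc]; exact hi
      linarith [Nat.eq_of_mul_eq_mul_left (by norm_num) this]⟩
    have hm : M.index % 11 = 1 := h1 ▸ card_sylow_modEq_one 11 N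
    have key : ∀ n < 649, n ∣ 648 → n % 11 = 1 → n ≤ 12 := by decide +kernel
    rw [h1]
    exact key _ (Nat.lt_succ_of_le (Nat.le_of_dvd (by norm_num) hd)) hd hm
  have hex : ∀ t : {t : N // orderOf t = 11}, ∃ P : Sylow 11 N, t.1 ∈ (P : Subgroup N) := fun t => by
    obtain ⟨P, hP⟩ := IsPGroup.exists_le_sylow (IsPGroup.of_card (n := 1) (p := 11)
      (G := ↥(zpowers t.1)) (by rw [Nat.card_zpowers, t.2, pow_one]))
    exact ⟨P, hP (mem_zpowers _)⟩
  choose f hf using hex
  calc Nat.card {t : N // orderOf t = 11}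
      ≤ Nat.card (Σ P : Sylow 11 N, ↥(P : Subgroup N)) :=
        Nat.card_le_card_of_injective (fun t => ⟨f t, ⟨t.1, hf t⟩⟩) fun a b e => Subtype.ext
          (congrArg (fun s : Σ P : Sylow 11 N, ↥(P : Subgroup N) => (s.2 : N)) e)
    _ ≤ 132 := by
        haveI := Fintype.ofFinite (Sylow 11 N)
        rw [Nat.card_sigma]
        refine (Finset.sum_le_card_nsmul _ _ 11 fun P _ => hP P).trans ?_
        rw [Finset.card_univ, ← Nat.card_eq_fintype_card, smul_eq_mul]
        omega

theorem not_regular {N : Subgroup C} [N.Normal] (hZ : Z ≤ N) (hU : N ⊓ stabilizer C p₀ = Z)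
    (hc : Nat.card N = 21384) : False := by
  haveI : Fact (Nat.Prime 11) := ⟨by norm_num⟩
  obtain ⟨n, hn⟩ := exists_prime_orderOf_dvd_card' (G := N) 11 (by rw [hc]; norm_num)
  have hmove : (n : C) • p₀ ≠ p₀ := fun h => by
    have h1 : (n : C) ∈ Z := hU.le ⟨n.2, h⟩
    have h2 := orderOf_dvd_natCard (⟨(n : C), h1⟩ : Z)
    rw [D.z_card, ← Subgroup.orderOf_coe] at h2
    rw [show orderOf (n : C) = 11 from (Subgroup.orderOf_coe n).trans hn] at h2
    norm_num at h2
  exact absurd ((D.orbit_large hmove).trans ((D.orbit_le_elements hn).trans (D.elements_le hZ hc)))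
    (by norm_num)

theorem normal_eq {N : Subgroup C} [hN : N.Normal] (hZ : Z ≤ N) : N = Z ∨ N = ⊤ := by
  rcases D.stab_maximal (le_sup_right : stabilizer C p₀ ≤ N ⊔ stabilizer C p₀) with h | h
  · have hNU : N ≤ stabilizer C p₀ := h ▸ le_sup_left
    rcases D.u_simple N hZ hNU (fun u _ m hm => hN.conj_mem m hm u) with e | e
    · exact .inl e
    · exact absurd (e ▸ hN) D.stab_not_normal
  · have hi : N ⊓ stabilizer C p₀ ≤ stabilizer C p₀ := inf_le_right
    rcases D.u_simple _ (le_inf hZ D.z_le) hi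
        (fun u hu m hm => mem_inf.2 ⟨hN.conj_mem m (mem_inf.1 hm).1 u,
          mul_mem (mul_mem hu (mem_inf.1 hm).2) (inv_mem hu)⟩) with e | e
    · exfalso
      refine D.not_regular hZ e ?_
      have horb : orbit N p₀ = Set.univ := Set.eq_univ_of_forall fun p => by
        obtain ⟨c, rfl⟩ := exists_smul_eq C p₀ p
        have hc : c ∈ ((N ⊔ stabilizer C p₀ : Subgroup C) : Set C) := h ▸ mem_top c
        rw [normal_mul] at hc
        obtain ⟨n, hn, u, hu, rfl⟩ := hc
        exact ⟨⟨n, hn⟩, by
          show n • p₀ = (n * u) • p₀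
          rw [mul_smul, mem_stabilizer_iff.1 hu]⟩
      have hst : stabilizer N p₀ = (stabilizer C p₀).subgroupOf N := by
        ext g
        simp [mem_subgroupOf, Subgroup.smul_def]
      have h1 := card_mul_index (stabilizer N p₀)
      rw [index_stabilizer, horb, Set.ncard_univ, hst, ← inf_subgroupOf_right,
        Nat.card_congr (subgroupOfEquivOfLe inf_le_right).toEquiv, inf_comm, e, D.z_card,
        ← index_stabilizer_of_transitive C p₀, D.index_stab] at h1
      exact h1.symm
    · refine .inr ?_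
      rw [← h, sup_eq_left.2 (inf_eq_right.1 e)]

theorem quotient_simple [Z.Normal] :
    IsSimpleGroup (C ⧸ Z) ∧ Nat.card (C ⧸ Z) = 898128000 := by
  have hcard : Nat.card (C ⧸ Z) = 898128000 := by
    have h := Subgroup.card_eq_card_quotient_mul_card_subgroup Z
    rw [D.card_group, D.z_card] at h
    omega
  haveI : Nontrivial (C ⧸ Z) := Finite.one_lt_card_iff_nontrivial.1 (by rw [hcard]; norm_num)
  refine ⟨⟨fun N hN => ?_⟩, hcard⟩
  rcases D.normal_eq (N := N.comap (QuotientGroup.mk' Z))
    (fun z hz => by simp [(QuotientGroup.eq_one_iff z).2 hz]) with e | e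
  · left
    rw [← map_comap_eq_self_of_surjective (QuotientGroup.mk'_surjective Z) N, e,
      QuotientGroup.map_mk'_self]
  · right
    rw [← map_comap_eq_self_of_surjective (QuotientGroup.mk'_surjective Z) N, e,
      map_top_of_surjective _ (QuotientGroup.mk'_surjective Z)]

theorem center_eq [Z.Normal] : center C = Z := by
  rcases D.normal_eq D.z_central with e | e
  · exact e
  · exfalso
    exact D.stab_not_normal ⟨fun n hn g => by
      rw [Subgroup.mem_center_iff.1 (e ▸ mem_top n) g, mul_inv_cancel_right]; exact hn⟩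

end CoreData

end CfsgLib.LyThree
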