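import Cfsg.Agent.Lib.LyThree.Fix
import Cfsg.Agent.Lib.LyThree.Core
import Cfsg.Prelude.Def_Sporadic

/-!
# The centraliser of the element of order three, from the coset data
-/

set_option autoImplicit false

namespace CfsgLib.LyThree

open MulAction Subgroup

variable {G : Type*} [Group G] [Finite G] {K : Subgroup G} {x : G}

theorem smul_mem_fixSet {c : G} (hc : c ∈ centralizer ({x} : Set G)) {p : G ⧸ K} (hp : p ∈ fixSet K x) :
    c • p ∈ fixSet K x := by
  simp only [fixSet, Set.mem_setOf_eq] at hp ⊢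
  rw [smul_smul, ← mem_centralizer_singleton_iff.1 hc, ← smul_smul, hp]

/-- The fixed cosets under the centraliser. -/
instance fixAction : MulAction ↥(centralizer ({x} : Set G)) ↥(fixSet K x) where
  smul c p := ⟨(c : G) • p.1, smul_mem_fixSet c.2 p.2⟩
  one_smul p := Subtype.ext (one_smul G p.1)
  mul_smul a b p := Subtype.ext (mul_smul (a : G) (b : G) p.1)

theorem centraliser_of_fixData (D : FixData K x 5) (hx : orderOf x = 3)
    (hcU : Nat.card ↥(K ⊓ centralizer ({x} : Set G)) = 378000)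
    (hstab : ∀ i, Nat.card ↥(stabilizer ↥(K ⊓ centralizer ({x} : Set G)) (D.pt i)) * subLen i = 378000)
    (hzero : D.pt 0 = ((1 : G) : G ⧸ K))
    (hsimple : ∀ M : Subgroup G, zpowers x ≤ M → M ≤ K ⊓ centralizer ({x} : Set G) →
      (∀ u ∈ K ⊓ centralizer ({x} : Set G), ∀ m ∈ M, u * m * u⁻¹ ∈ M) →
      M = zpowers x ∨ M = K ⊓ centralizer ({x} : Set G)) :
    Nat.card (center ↥(centralizer ({x} : Set G))) = 3 ∧
      Cfsg.IsMcL (↥(centralizer ({x} : Set G)) ⧸ center ↥(centralizer ({x} : Set G))) := by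
  set C := centralizer ({x} : Set G) with hC
  have hxC : x ∈ C := mem_centralizer_singleton_iff.2 rfl
  let p₀ : ↥(fixSet K x) := ⟨((1 : G) : G ⧸ K), hzero ▸ D.pt_fixed 0⟩
  haveI : IsPretransitive C ↥(fixSet K x) := by
    refine (isPretransitive_iff_base p₀).2 fun p => ?_
    obtain ⟨c, hc, e⟩ := D.fixed_transitive p.2
    exact ⟨⟨c, hc⟩, Subtype.ext e⟩
  have hstab0 : stabilizer C p₀ = (K ⊓ C).subgroupOf C := by
    ext ⟨c, hc⟩
    rw [mem_stabilizer_iff, mem_subgroupOf, Subtype.ext_iff]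
    show c • ((1 : G) : G ⧸ K) = _ ↔ c ∈ K ⊓ C
    rw [MulAction.Quotient.smul_coe, smul_eq_mul, mul_one, QuotientGroup.eq, mul_one, inv_mem_iff,
      mem_inf]
    exact ⟨fun h => ⟨h, hc⟩, fun h => h.1⟩
  have horb : ∀ p : ↥(fixSet K x), Subtype.val '' orbit (stabilizer C p₀) p = orbit ↥(K ⊓ C) p.1 := by
    intro p
    ext q
    constructor
    · rintro ⟨_, ⟨⟨⟨u, huC⟩, hu⟩, rfl⟩, rfl⟩
      rw [hstab0] at hu
      exact ⟨⟨u, hu⟩, rfl⟩
    · rintro ⟨⟨u, hu⟩, rfl⟩
      exact ⟨_, ⟨⟨⟨u, hu.2⟩, by rw [hstab0]; exact hu⟩, rfl⟩, rfl⟩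
  let Z : Subgroup C := (zpowers x).subgroupOf C
  have hxle : zpowers x ≤ C := zpowers_le.2 hxC
  have hZc : Z ≤ center C := by
    rintro z hz
    obtain ⟨k, hk⟩ := mem_zpowers_iff.1 (mem_subgroupOf.1 hz)
    refine Subgroup.mem_center_iff.2 fun c => Subtype.ext ?_
    have h : Commute (c : G) (x ^ k) :=
      Commute.zpow_right (mem_centralizer_singleton_iff.1 c.2) k
    rw [hk] at h
    exact h
  haveI : Z.Normal := ⟨fun n hn g => by
    rw [Subgroup.mem_center_iff.1 (hZc hn) g, mul_inv_cancel_right]; exact hn⟩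
  have hZcard : Nat.card Z = 3 := by
    rw [Nat.card_congr (subgroupOfEquivOfLe hxle).toEquiv, Nat.card_zpowers, hx]
  have D' : CoreData C ↥(fixSet K x) p₀ Z :=
  { z_le := fun z hz => by
      rw [hstab0]
      exact ⟨zpowers_le.2 D.x_mem (mem_subgroupOf.1 hz), z.2⟩
    z_card := hZcard
    z_central := hZc
    u_card := by rw [hstab0, Nat.card_congr (subgroupOfEquivOfLe inf_le_right).toEquiv, hcU]
    piece := fun i => ⟨D.pt i, D.pt_fixed i⟩
    piece_zero := Subtype.ext hzero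
    piece_len := fun i => by
      rw [Nat.card_coe_set_eq, ← Set.ncard_image_of_injective _ Subtype.val_injective, horb,
        ← Nat.card_coe_set_eq]
      have h1 := D.card_piece i
      rw [hcU, mul_comm] at h1
      have h2 := hstab i
      rw [← h1] at h2
      exact (Nat.eq_of_mul_eq_mul_left Nat.card_pos h2).symm
    piece_cover := fun p => by
      obtain ⟨i, u, hu, e⟩ := D.exists_piece p.2
      exact ⟨i, ⟨⟨⟨u, hu.2⟩, by rw [hstab0]; exact hu⟩, Subtype.ext e⟩⟩
    piece_inj := fun i j p hi hj => D.piece_inj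
      (horb ⟨D.pt i, D.pt_fixed i⟩ ▸ Set.mem_image_of_mem _ hi)
      (horb ⟨D.pt j, D.pt_fixed j⟩ ▸ Set.mem_image_of_mem _ hj)
    u_simple := fun M hZM hMU hn => by
      rw [hstab0] at hMU hn ⊢
      have hle : M.map C.subtype ≤ K ⊓ C := by
        rintro _ ⟨m, hm, rfl⟩
        exact hMU hm
      rcases hsimple (M.map C.subtype) (fun z hz => ⟨⟨z, hxle hz⟩, hZM hz, rfl⟩) hle
        (by
          rintro u hu _ ⟨m, hm, rfl⟩
          exact ⟨_, hn ⟨u, hu.2⟩ hu m hm, rfl⟩) with e | e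
      · refine .inl ?_
        rw [← comap_map_eq_self_of_injective C.subtype_injective M, e]
        rfl
      · refine .inr ?_
        rw [← comap_map_eq_self_of_injective C.subtype_injective M, e]
        rfl }
  have hZ := D'.center_eq
  refine ⟨by rw [hZ]; exact hZcard, ?_, ?_⟩
  · haveI := D'.quotient_simple.1
    exact (MulEquiv.isSimpleGroup_congr (QuotientGroup.quotientMulEquivOfEq hZ)).2 this
  · rw [Nat.card_congr (QuotientGroup.quotientMulEquivOfEq hZ).toEquiv]
    exact D'.quotient_simple.2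

end CfsgLib.LyThree
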