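import Cfsg.Agent.Lib.LyThree.Engine
import Cfsg.Agent.Lib.LyThree.CentData
import Mathlib.GroupTheory.GroupAction.ConjAct

/-!
# The centraliser in `kk` of the element of order three has order 378000
-/

set_option autoImplicit false
set_option maxRecDepth 200000

namespace CfsgLib.LyThree

open CfsgLib.LyGTwo MulAction Subgroup

/-- The action on the points. -/
noncomputable instance kkAct : MulAction ↥kk (Fin 3906) := MulAction.compHom _ pAct

theorem kk_smul (g : ↥kk) (p : Fin 3906) : g • p = pAct g p := rfl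

theorem word_smul {w : List ℕ} (hw : kLet w = true) (i : Fin 3906) : (Kw w • i).val = pwalk w i.val :=
  pAct_word hw i

/-- Orbit rows from codes. -/
def decRows (l : List ℕ) : List (ℕ × ℕ) := l.map fun c => (c / 8, c % 8)

theorem cert_all : (reach [[0], [1], [2], [3]] (decRows rowsAll) (2 ^ 0)).isSome = true ∧
    rowsAll.length = 3905 := by
  constructor <;> decide +kernel

theorem cert_par : (reach [[2], [5], [6]] (decRows rowsPar) (2 ^ 8)).isSome = true ∧
    rowsPar.length = 3124 ∧ ([[2], [5], [6]].all fun g => Nat.beq (pwalk g 0) 0) = true := by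
  refine ⟨?_, ?_, ?_⟩ <;> decide +kernel

theorem cert_fix : (reach [aW, bW] (decRows rowsFix) (2 ^ 0)).isSome = true ∧
    rowsFix.length = 125 ∧ (reach [bW, tW] (decRows rowsFixTwo) (2 ^ 8)).isSome = true ∧
    rowsFixTwo.length = 124 ∧ pwalk bW 0 = 0 ∧ pwalk tW 0 = 0 ∧ pwalk tW 8 = 8 := by
  refine ⟨?_, ?_, ?_, ?_, ?_, ?_, ?_⟩ <;> decide +kernel

theorem cert_pts : ((List.range 3906).filter fun i => Nat.beq (pwalk xW i) i) = fixPts ∧
    fixPts.length = 126 ∧ fixPts.getD 0 1 = 0 := by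
  refine ⟨?_, ?_, ?_⟩ <;> decide +kernel

theorem cert_twenty : allDiff (valsOf (conjTwenty.map fun c => c ++ xW ++ invW c)) = true ∧
    conjTwenty.length = 20 ∧
    (conjTwenty.all fun c => kLet c && kLet (c ++ xW ++ invW c) &&
      Nat.beq (pwalk c 0) 0 && Nat.beq (pwalk c 8) 8) = true := by
  refine ⟨?_, ?_, ?_⟩ <;> decide +kernel

theorem cert_pow : allDiff (valsOf ((List.range 24).map fun k => (List.replicate k tW).flatten)) = true ∧
    (((List.range 24).map fun k => (List.replicate k tW).flatten).all kLet) = true := by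
  constructor <;> decide +kernel

theorem cert_comm : ([aW, bW, tW].all fun g => kSame (g ++ xW) (xW ++ g)) = true ∧
    kSame (List.replicate 8 tW).flatten xW = true ∧ kLet xW = true ∧
    ([aW, bW, tW].all kLet) = true := by
  refine ⟨?_, ?_, ?_, ?_⟩ <;> decide +kernel

/-- The element of order three in `kk`. -/
noncomputable def xk : ↥kk := Kw xW

/-- Its centraliser in `kk`. -/
noncomputable def cx : Subgroup ↥kk := centralizer ({xk} : Set ↥kk)

theorem Kw_mem_cx {g : List ℕ} (hg : g ∈ [aW, bW, tW]) : Kw g ∈ cx := by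
  have := Kw_eq (List.all_eq_true.1 cert_comm.1 g hg)
  rw [Kw_append, Kw_append] at this
  exact mem_centralizer_singleton_iff.2 this

theorem Kw_replicate (k : ℕ) (w : List ℕ) : Kw (List.replicate k w).flatten = Kw w ^ k := by
  induction k with
  | zero => simp [Kw]
  | succ k ih => rw [List.replicate_succ, List.flatten_cons, Kw_append, ih, pow_succ']

theorem card_orbit_mul (A : Subgroup ↥kk) (p : Fin 3906) :
    {q | ∃ h ∈ A, h • p = q}.ncard * Nat.card ↥(A ⊓ stabilizer ↥kk p) = Nat.card ↥A := by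
  have h1 : {q | ∃ h ∈ A, h • p = q} = orbit ↥A p := by
    ext q
    exact ⟨fun ⟨h, hh, e⟩ => ⟨⟨h, hh⟩, e⟩, fun ⟨h, e⟩ => ⟨h, h.2, e⟩⟩
  have h2 : stabilizer ↥A p = (A ⊓ stabilizer ↥kk p).subgroupOf A := by
    ext g
    simp [mem_subgroupOf, Subgroup.smul_def]
  rw [← card_mul_index (stabilizer ↥A p), index_stabilizer, h2,
    Nat.card_congr (subgroupOfEquivOfLe inf_le_left).toEquiv, h1, mul_comm]

theorem conj_card_le (A : Subgroup ↥kk) (x : ↥kk) :
    {y | ∃ h ∈ A, h * x * h⁻¹ = y}.ncard * Nat.card ↥(A ⊓ centralizer ({x} : Set ↥kk)) ≤ Nat.card ↥A := by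
  classical
  set S := {y | ∃ h ∈ A, h * x * h⁻¹ = y}
  choose h hh he using fun y : S => y.2
  let f : S × ↥(A ⊓ centralizer ({x} : Set ↥kk)) → ↥A := fun p =>
    ⟨h p.1 * p.2.1, mul_mem (hh p.1) p.2.2.1⟩
  have hf : Function.Injective f := by
    rintro ⟨y, c⟩ ⟨y', c'⟩ e
    have e1 : h y * c.1 = h y' * c'.1 := congrArg Subtype.val e
    have hc : ∀ d : ↥(A ⊓ centralizer ({x} : Set ↥kk)), d.1 * x * d.1⁻¹ = x := fun d => by
      rw [mem_centralizer_singleton_iff.1 d.2.2, mul_inv_cancel_right]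
    have : y = y' := Subtype.ext <| by
      rw [← he y, ← he y']
      calc h y * x * (h y)⁻¹ = h y * (c.1 * x * c.1⁻¹) * (h y)⁻¹ := by rw [hc]
        _ = (h y * c.1) * x * (h y * c.1)⁻¹ := by group
        _ = (h y' * c'.1) * x * (h y' * c'.1)⁻¹ := by rw [e1]
        _ = h y' * (c'.1 * x * c'.1⁻¹) * (h y')⁻¹ := by group
        _ = h y' * x * (h y')⁻¹ := by rw [hc]
    subst this
    exact Prod.ext rfl (Subtype.ext (mul_left_cancel e1))
  have := Nat.card_le_card_of_injective f hf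
  rwa [Nat.card_prod, Nat.card_coe_set_eq] at this

theorem all_orbit : {q | ∃ h ∈ (⊤ : Subgroup ↥kk), h • (0 : Fin 3906) = q}.ncard = 3906 := by
  obtain ⟨S, hS, hmem⟩ := reach_orbit (gens := [[0], [1], [2], [3]]) (by decide +kernel) ⊤
    (fun _ _ => mem_top _) (p := (0 : Fin 3906)) (l := decRows rowsAll) cert_all.1
  rw [decRows, List.length_map, cert_all.2] at hS
  refine le_antisymm ((Set.ncard_le_card _).trans_eq (Nat.card_fin _)) ?_
  have := Set.ncard_le_ncard (s := (S : Set (Fin 3906))) (t := {q | ∃ h ∈ (⊤ : Subgroup ↥kk), h • (0 : Fin 3906) = q})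
    (fun q hq => hmem q hq) (Set.toFinite _)
  rwa [Set.ncard_coe_finset, hS] at this

/-- The stabiliser of two points. -/
noncomputable def twoStab : Subgroup ↥kk := stabilizer ↥kk (0 : Fin 3906) ⊓ stabilizer ↥kk (8 : Fin 3906)

theorem mem_stab_word {w : List ℕ} (hw : kLet w = true) {p : Fin 3906} (h : pwalk w p.val = p.val) :
    Kw w ∈ stabilizer ↥kk p := by
  rw [mem_stabilizer_iff]
  exact Fin.ext ((word_smul hw p).trans h)

theorem twoStab_le : Nat.card ↥twoStab ≤ 480 := by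
  have h0 := card_orbit_mul ⊤ (0 : Fin 3906)
  rw [all_orbit, top_inf_eq, Subgroup.card_top, kk_card] at h0
  have h8 := card_orbit_mul (stabilizer ↥kk (0 : Fin 3906)) (8 : Fin 3906)
  obtain ⟨c1, c2, c3⟩ := cert_par
  obtain ⟨S, hS, hmem⟩ := reach_orbit (gens := [[2], [5], [6]]) (by decide +kernel)
    (stabilizer ↥kk (0 : Fin 3906))
    (fun w hw => mem_stab_word (List.all_eq_true.1 (by decide +kernel : [[2], [5], [6]].all kLet = true) w hw)
      (Nat.eq_of_beq_eq_true (List.all_eq_true.1 c3 w hw)))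
    (p := (8 : Fin 3906)) (l := decRows rowsPar) c1
  rw [decRows, List.length_map, c2] at hS
  have hle := Set.ncard_le_ncard (s := (S : Set (Fin 3906)))
    (t := {q | ∃ h ∈ stabilizer ↥kk (0 : Fin 3906), h • (8 : Fin 3906) = q})
    (fun q hq => hmem q hq) (Set.toFinite _)
  rw [Set.ncard_coe_finset, hS] at hle
  have h2 : Nat.card ↥(stabilizer ↥kk (0 : Fin 3906)) = 1500000 := by omega
  rw [h2] at h8
  change _ * Nat.card ↥twoStab = _ at h8
  nlinarith [Nat.mul_le_mul_right (Nat.card ↥twoStab) hle]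

theorem cx_two_le : Nat.card ↥(twoStab ⊓ cx) ≤ 24 := by
  obtain ⟨c1, c2, c3⟩ := cert_twenty
  have hc : ∀ c ∈ conjTwenty, kLet c = true ∧ kLet (c ++ xW ++ invW c) = true ∧ pwalk c 0 = 0 ∧
      pwalk c 8 = 8 := fun c hc => by
    have := List.all_eq_true.1 c3 c hc
    simp only [Bool.and_eq_true, Nat.beq_eq] at this
    exact ⟨this.1.1.1, this.1.1.2, this.1.2, this.2⟩
  have h20 : 20 ≤ Nat.card ↥{y | ∃ h ∈ twoStab, h * xk * h⁻¹ = y} := by
    refine le_trans (by rw [List.length_map, c2]) (card_ge_of_nodup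
      (ws := conjTwenty.map fun c => c ++ xW ++ invW c) ?_ c1 ?_)
    · simp only [List.all_eq_true, List.mem_map, forall_exists_index, and_imp]
      rintro w c hcm rfl
      exact (hc c hcm).2.1
    · intro w hw
      obtain ⟨c, hcm, rfl⟩ := List.mem_map.1 hw
      obtain ⟨k1, -, k3, k4⟩ := hc c hcm
      exact ⟨Kw c, ⟨mem_stab_word k1 k3, mem_stab_word k1 k4⟩, (Kw_conj c xW).symm⟩
  rw [Nat.card_coe_set_eq] at h20
  have h := conj_card_le twoStab xk
  change _ * Nat.card ↥(twoStab ⊓ cx) ≤ _ at h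
  nlinarith [twoStab_le, Nat.mul_le_mul_right (Nat.card ↥(twoStab ⊓ cx)) h20]

/-- The set of fixed points. -/
def fixFin : Finset (Fin 3906) := Finset.univ.filter fun i => i.val ∈ fixPts

theorem mem_fixFin {i : Fin 3906} : i ∈ fixFin ↔ xk • i = i := by
  rw [fixFin, Finset.mem_filter, ← cert_pts.1, List.mem_filter, List.mem_range, Nat.beq_eq, Fin.ext_iff,
    xk, word_smul cert_comm.2.2.1]
  simp

theorem fixFin_card : fixFin.card ≤ 126 := by
  refine (Finset.card_le_card_of_injOn (fun i => i.val) (t := fixPts.toFinset) (fun i hi => ?_)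
    (fun a _ b _ h => Fin.ext h)).trans ((List.toFinset_card_le _).trans_eq cert_pts.2.1)
  simpa [fixFin] using hi

theorem cx_smul_fix {h : ↥kk} (hh : h ∈ cx) {i : Fin 3906} (hi : i ∈ fixFin) : h • i ∈ fixFin := by
  rw [mem_fixFin] at hi ⊢
  rw [smul_smul, ← mem_centralizer_singleton_iff.1 hh, ← smul_smul, hi]

theorem zero_fix : (0 : Fin 3906) ∈ fixFin := by
  simp only [fixFin, Finset.mem_filter, Finset.mem_univ, true_and, Fin.val_zero]
  have h : decide (0 ∈ fixPts) = true := by decide +kernel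
  exact of_decide_eq_true h

theorem eight_fix : (8 : Fin 3906) ∈ fixFin := by
  simp only [fixFin, Finset.mem_filter, Finset.mem_univ, true_and]
  have h : decide ((8 : Fin 3906).val ∈ fixPts) = true := by decide +kernel
  exact of_decide_eq_true h

/-- The subgroup on the three generators. -/
noncomputable def cgen : Subgroup ↥kk := closure {Kw aW, Kw bW, Kw tW}

theorem cgen_le : cgen ≤ cx := by
  rw [cgen, closure_le]
  rintro y (rfl | rfl | rfl) <;> exact Kw_mem_cx (by simp)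

theorem bW_mem : Kw bW ∈ cgen ⊓ stabilizer ↥kk (0 : Fin 3906) :=
  ⟨subset_closure (by simp), mem_stab_word (List.all_eq_true.1 cert_comm.2.2.2 _ (by simp))
    (by simpa using cert_fix.2.2.2.2.1)⟩

theorem tW_mem : Kw tW ∈ cgen ⊓ stabilizer ↥kk (0 : Fin 3906) ∧ Kw tW ∈ stabilizer ↥kk (8 : Fin 3906) :=
  ⟨⟨subset_closure (by simp), mem_stab_word (List.all_eq_true.1 cert_comm.2.2.2 _ (by simp))
      (by simpa using cert_fix.2.2.2.2.2.1)⟩,
    mem_stab_word (List.all_eq_true.1 cert_comm.2.2.2 _ (by simp)) cert_fix.2.2.2.2.2.2⟩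

theorem fix_orbit : ∀ i ∈ fixFin, ∃ g ∈ cgen, g • (0 : Fin 3906) = i := by
  obtain ⟨S, hS, hmem⟩ := reach_orbit (gens := [aW, bW]) (by decide +kernel) cgen
    (fun w hw => subset_closure (by
      simp only [List.mem_cons, List.not_mem_nil, or_false] at hw
      rcases hw with rfl | rfl <;> simp))
    (p := (0 : Fin 3906)) (l := decRows rowsFix) cert_fix.1
  rw [decRows, List.length_map, cert_fix.2.1] at hS
  have hsub : S ⊆ fixFin := fun i hi => by
    obtain ⟨g, hg, e⟩ := hmem i hi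
    rw [← kk_smul] at e
    exact e ▸ cx_smul_fix (cgen_le hg) zero_fix
  rw [← Finset.eq_of_subset_of_card_le hsub (by rw [hS]; exact fixFin_card)]
  exact hmem

theorem fix_orbit_two : ∀ i ∈ fixFin, i ≠ 0 →
    ∃ g ∈ cgen ⊓ stabilizer ↥kk (0 : Fin 3906), g • (8 : Fin 3906) = i := by
  obtain ⟨S, hS, hmem⟩ := reach_orbit (gens := [bW, tW]) (by decide +kernel)
    (cgen ⊓ stabilizer ↥kk (0 : Fin 3906))
    (fun w hw => by
      simp only [List.mem_cons, List.not_mem_nil, or_false] at hw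
      rcases hw with rfl | rfl
      exacts [bW_mem, tW_mem.1])
    (p := (8 : Fin 3906)) (l := decRows rowsFixTwo) cert_fix.2.2.1
  rw [decRows, List.length_map, cert_fix.2.2.2.1] at hS
  have hsub : S ⊆ fixFin.erase 0 := fun i hi => by
    obtain ⟨g, hg, e⟩ := hmem i hi
    rw [← kk_smul] at e
    refine Finset.mem_erase.2 ⟨fun h0 => ?_, e ▸ cx_smul_fix (cgen_le hg.1) eight_fix⟩
    have h2 : g • (8 : Fin 3906) = g • (0 : Fin 3906) := by rw [e, h0, mem_stabilizer_iff.1 hg.2]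
    exact absurd ((MulAction.injective g) h2) (by decide +kernel)
  rw [show ∀ P : Fin 3906 → Prop, (∀ i ∈ fixFin, i ≠ 0 → P i) ↔ ∀ i ∈ fixFin.erase 0, P i from
    fun P => ⟨fun h i hi => h i (Finset.mem_of_mem_erase hi) (Finset.ne_of_mem_erase hi),
      fun h i hi hne => h i (Finset.mem_erase.2 ⟨hne, hi⟩)⟩,
    ← Finset.eq_of_subset_of_card_le hsub (by
      rw [hS, Finset.card_erase_of_mem zero_fix]
      have := fixFin_card
      omega)]
  exact hmem

theorem tW_pow_inj : Set.InjOn (fun k => Kw tW ^ k) (Set.Iio 24) := by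
  have h := Kw_nodup cert_pow.2 cert_pow.1
  rw [List.map_map] at h
  intro a ha b hb e
  have := List.inj_on_of_nodup_map h (x := a) (y := b)
  exact this (List.mem_range.2 ha) (List.mem_range.2 hb) (by simpa [Kw_replicate] using e)

theorem cgen_two_ge : 24 ≤ Nat.card ↥(cgen ⊓ stabilizer ↥kk (0 : Fin 3906) ⊓ stabilizer ↥kk (8 : Fin 3906)) := by
  have hm : Kw tW ∈ cgen ⊓ stabilizer ↥kk (0 : Fin 3906) ⊓ stabilizer ↥kk (8 : Fin 3906) :=
    ⟨tW_mem.1, tW_mem.2⟩
  let f : Fin 24 → ↥(cgen ⊓ stabilizer ↥kk (0 : Fin 3906) ⊓ stabilizer ↥kk (8 : Fin 3906)) :=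
    fun k => ⟨Kw tW ^ k.val, pow_mem hm _⟩
  have := Nat.card_le_card_of_injective f fun a b e =>
    Fin.ext (tW_pow_inj a.isLt b.isLt (congrArg Subtype.val e))
  rwa [Nat.card_fin] at this

theorem orbit_counts (A : Subgroup ↥kk) (h1 : cgen ≤ A) (h2 : A ≤ cx) :
    Nat.card ↥A = 126 * Nat.card ↥(A ⊓ stabilizer ↥kk (0 : Fin 3906)) ∧
    Nat.card ↥(A ⊓ stabilizer ↥kk (0 : Fin 3906)) =
      125 * Nat.card ↥(A ⊓ stabilizer ↥kk (0 : Fin 3906) ⊓ stabilizer ↥kk (8 : Fin 3906)) := by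
  have hc : fixFin.card = 126 := le_antisymm fixFin_card (by
    obtain ⟨S, hS, hmem⟩ := reach_orbit (gens := [aW, bW]) (by decide +kernel) cgen
      (fun w hw => subset_closure (by
        simp only [List.mem_cons, List.not_mem_nil, or_false] at hw
        rcases hw with rfl | rfl <;> simp))
      (p := (0 : Fin 3906)) (l := decRows rowsFix) cert_fix.1
    rw [decRows, List.length_map, cert_fix.2.1] at hS
    exact le_trans hS.ge <| Finset.card_le_card fun i hi => by
      obtain ⟨g, hg, e⟩ := hmem i hi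
      rw [← kk_smul] at e
      exact e ▸ cx_smul_fix (cgen_le hg) zero_fix)
  have e1 : {q | ∃ h ∈ A, h • (0 : Fin 3906) = q} = ↑fixFin := by
    ext q
    constructor
    · rintro ⟨h, hh, rfl⟩; exact cx_smul_fix (h2 hh) zero_fix
    · intro hq; obtain ⟨g, hg, e⟩ := fix_orbit q hq; exact ⟨g, h1 hg, e⟩
  have e2 : {q | ∃ h ∈ A ⊓ stabilizer ↥kk (0 : Fin 3906), h • (8 : Fin 3906) = q} =
      ↑(fixFin.erase 0) := by
    ext q
    constructor
    · rintro ⟨h, hh, rfl⟩
      refine Finset.mem_coe.2 (Finset.mem_erase.2 ⟨fun h0 => ?_, cx_smul_fix (h2 hh.1) eight_fix⟩)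
      have h3 : h • (8 : Fin 3906) = h • (0 : Fin 3906) := by rw [h0, mem_stabilizer_iff.1 hh.2]
      exact absurd ((MulAction.injective h) h3) (by decide +kernel)
    · intro hq
      obtain ⟨g, hg, e⟩ := fix_orbit_two q (Finset.mem_of_mem_erase hq) (Finset.ne_of_mem_erase hq)
      exact ⟨g, ⟨h1 hg.1, hg.2⟩, e⟩
  have a1 := card_orbit_mul A (0 : Fin 3906)
  rw [e1, Set.ncard_coe_finset, hc] at a1
  have a2 := card_orbit_mul (A ⊓ stabilizer ↥kk (0 : Fin 3906)) (8 : Fin 3906)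
  rw [e2, Set.ncard_coe_finset, Finset.card_erase_of_mem zero_fix, hc] at a2
  exact ⟨a1.symm, a2.symm⟩

theorem cx_two_eq : Nat.card ↥(cx ⊓ stabilizer ↥kk (0 : Fin 3906) ⊓ stabilizer ↥kk (8 : Fin 3906)) = 24 := by
  refine le_antisymm ?_ ?_
  · refine (Nat.le_of_dvd Nat.card_pos (card_dvd_of_le ?_)).trans cx_two_le
    intro g hg
    exact ⟨⟨hg.1.2, hg.2⟩, hg.1.1⟩
  · refine cgen_two_ge.trans (Nat.le_of_dvd Nat.card_pos (card_dvd_of_le ?_))
    exact inf_le_inf_right _ (inf_le_inf_right _ cgen_le)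

theorem cgen_two_eq :
    Nat.card ↥(cgen ⊓ stabilizer ↥kk (0 : Fin 3906) ⊓ stabilizer ↥kk (8 : Fin 3906)) = 24 :=
  le_antisymm ((Nat.le_of_dvd Nat.card_pos (card_dvd_of_le
    (inf_le_inf_right _ (inf_le_inf_right _ cgen_le)))).trans_eq cx_two_eq) cgen_two_ge

theorem cx_card : Nat.card ↥cx = 378000 := by
  obtain ⟨a1, a2⟩ := orbit_counts cx cgen_le le_rfl
  rw [a1, a2, cx_two_eq]

theorem cgen_eq : cgen = cx := by
  obtain ⟨a1, a2⟩ := orbit_counts cgen le_rfl cgen_le
  refine eq_of_le_of_card_ge cgen_le ?_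
  rw [cx_card, a1, a2, cgen_two_eq]

end CfsgLib.LyThree
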