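import Cfsg.Agent.Lib.LyThree.Points

/-!
# Certificates: orbits on points, closed lists, traces
-/

set_option autoImplicit false
set_option maxRecDepth 100000

namespace CfsgLib.LyThree

open CfsgLib.LyGTwo MulAction

/-! ## Orbits on points -/

/-- Extend a set of points, each new one being the image of an old one under a word. -/
def reach (gens : List (List ℕ)) : List (ℕ × ℕ) → ℕ → Option ℕ
  | [], m => some m
  | (i, g) :: l, m =>
    let j := pwalk (gens.getD g []) i
    if Nat.blt g gens.length && Nat.blt i 3906 && m.testBit i && !m.testBit j then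
      reach gens l (m ||| 2 ^ j)
    else none

/-- The points of a set given by bits. -/
def maskSet (m : ℕ) : Finset (Fin 3906) := Finset.univ.filter fun i => m.testBit i.val

theorem pwalk_lt {w : List ℕ} (hw : kLet w = true) {i : ℕ} (hi : i < 3906) : pwalk w i < 3906 := by
  have := pAct_word hw ⟨i, hi⟩
  simp only at this
  rw [← this]
  exact (pAct (Kw w) ⟨i, hi⟩).isLt

theorem reach_spec {gens : List (List ℕ)} (hg : ∀ w ∈ gens, kLet w = true) (H : Subgroup ↥kk)
    (hH : ∀ w ∈ gens, Kw w ∈ H) (p : Fin 3906) :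
    ∀ (l : List (ℕ × ℕ)) (m m' : ℕ), reach gens l m = some m' →
      (∀ i ∈ maskSet m, ∃ h ∈ H, pAct h p = i) →
      (∀ i ∈ maskSet m', ∃ h ∈ H, pAct h p = i) ∧ (maskSet m').card = (maskSet m).card + l.length
  | [], m, m', h, hm => by
    simp only [reach, Option.some.injEq] at h
    subst h
    exact ⟨hm, rfl⟩
  | (i, g) :: l, m, m', h, hm => by
    simp only [reach] at h
    split at h
    · rename_i hc
      simp only [Bool.and_eq_true, Nat.blt_eq, Bool.not_eq_true'] at hc
      obtain ⟨⟨⟨hgl, hi⟩, hbi⟩, hbj⟩ := hc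
      set w := gens.getD g [] with hw
      have hmem : w ∈ gens := by rw [hw, List.getD_eq_getElem _ _ hgl]; exact List.getElem_mem _
      have hjlt := pwalk_lt (hg w hmem) hi
      have hins : maskSet (m ||| 2 ^ pwalk w i) = insert ⟨pwalk w i, hjlt⟩ (maskSet m) := by
        ext q
        simp only [maskSet, Finset.mem_filter, Finset.mem_univ, true_and, Finset.mem_insert,
          Nat.testBit_or, Bool.or_eq_true, Nat.testBit_two_pow, decide_eq_true_eq, Fin.ext_iff]
        constructor
        · rintro (h | h)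
          · exact .inr h
          · exact .inl h.symm
        · rintro (h | h)
          · exact .inr h.symm
          · exact .inl h
      have hm2 : ∀ q ∈ maskSet (m ||| 2 ^ pwalk w i), ∃ h ∈ H, pAct h p = q := by
        intro q hq
        rw [hins, Finset.mem_insert] at hq
        rcases hq with rfl | hq
        · obtain ⟨h, hh, e⟩ := hm ⟨i, hi⟩ (by simp [maskSet, hbi])
          refine ⟨Kw w * h, mul_mem (hH w hmem) hh, Fin.ext ?_⟩
          rw [map_mul, Equiv.Perm.mul_apply, e, pAct_word (hg w hmem)]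
        · exact hm q hq
      obtain ⟨r1, r2⟩ := reach_spec hg H hH p l _ m' h hm2
      refine ⟨r1, ?_⟩
      rw [r2, hins, Finset.card_insert_of_notMem (by simp [maskSet, hbj]), List.length_cons]
      omega
    · simp at h

theorem reach_orbit {gens : List (List ℕ)} (hg : gens.all kLet = true) (H : Subgroup ↥kk)
    (hH : ∀ w ∈ gens, Kw w ∈ H) {p : Fin 3906} {l : List (ℕ × ℕ)}
    (h : (reach gens l (2 ^ p.val)).isSome = true) :
    ∃ S : Finset (Fin 3906), S.card = l.length + 1 ∧ ∀ i ∈ S, ∃ g ∈ H, pAct g p = i := by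
  obtain ⟨m', hm'⟩ := Option.isSome_iff_exists.1 h
  have h1 : maskSet (2 ^ p.val) = {p} := by
    ext q
    simp only [maskSet, Finset.mem_filter, Finset.mem_univ, true_and, Nat.testBit_two_pow,
      decide_eq_true_eq, Finset.mem_singleton, Fin.ext_iff]
    exact eq_comm
  obtain ⟨r1, r2⟩ := reach_spec (List.all_eq_true.1 hg) H hH p l _ m' hm' (by
    intro i hi
    rw [h1, Finset.mem_singleton] at hi
    subst hi
    exact ⟨1, one_mem _, by simp⟩)
  exact ⟨maskSet m', by rw [r2, h1, Finset.card_singleton]; omega, r1⟩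

/-! ## Values of words -/

/-- All pairs of words have different values. -/
def allDiff : List (List ℕ) → Bool
  | [] => true
  | a :: l => (l.all fun b => !SF.beqL a b) && allDiff l

/-- The values of words. -/
noncomputable def valsOf (ws : List (List ℕ)) : List (List ℕ) := ws.map (SF.evalP 14 gTwoAll)

theorem allDiff_inj : ∀ {l : List (List ℕ)}, allDiff l = true → l.Nodup
  | [], _ => List.nodup_nil
  | a :: l, h => by
    simp only [allDiff, Bool.and_eq_true, List.all_eq_true, Bool.not_eq_true'] at h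
    refine List.nodup_cons.2 ⟨fun ha => ?_, allDiff_inj h.2⟩
    have := h.1 a ha
    rw [beqL_refl] at this
    exact absurd this (by decide)

theorem Kw_nodup {ws : List (List ℕ)} (hk : ws.all kLet = true) (h : allDiff (valsOf ws) = true) :
    (ws.map Kw).Nodup := by
  have h1 := List.all_eq_true.1 hk
  refine List.Nodup.map_on (fun u hu w hw e => ?_) (List.Nodup.of_map _ (allDiff_inj h))
  exact List.inj_on_of_nodup_map (allDiff_inj h) hu hw (evalP_eq_of_Kw (h1 u hu) (h1 w hw) e)

theorem card_ge_of_nodup {S : Set ↥kk} {ws : List (List ℕ)} (hk : ws.all kLet = true)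
    (h : allDiff (valsOf ws) = true) (hS : ∀ w ∈ ws, Kw w ∈ S) : ws.length ≤ Nat.card ↥S := by
  classical
  have hn := Kw_nodup hk h
  have hsub : ((ws.map Kw).toFinset : Set ↥kk) ⊆ S := by
    intro x hx
    simp only [List.coe_toFinset, Set.mem_setOf_eq, List.mem_map] at hx
    obtain ⟨w, hw, rfl⟩ := hx
    exact hS w hw
  have := Set.ncard_le_ncard hsub (Set.toFinite _)
  rw [Set.ncard_coe_finset, List.toFinset_card_of_nodup hn, List.length_map] at this
  rwa [Nat.card_coe_set_eq]

/-- A set of values closed under left multiplication by the generators. -/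
noncomputable def leftClosed (gens ws : List (List ℕ)) (next : List (List ℕ)) : Bool :=
  (List.range ws.length).all fun i => (List.range gens.length).all fun g =>
    Nat.blt ((next.getD i []).getD g 0) ws.length &&
      kSame (gens.getD g [] ++ ws.getD i []) (ws.getD ((next.getD i []).getD g 0) [])

theorem leftClosed_spec {gens ws next : List (List ℕ)} (h : leftClosed gens ws next = true)
    (h0 : [] ∈ ws) {y : ↥kk} (hy : y ∈ Subgroup.closure (Kw '' {w | w ∈ gens})) :
    ∃ w ∈ ws, Kw w = y := by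
  suffices H : ∀ v ∈ ws, ∃ w ∈ ws, Kw w = y * Kw v by
    obtain ⟨w, hw, e⟩ := H [] h0
    exact ⟨w, hw, by rw [e]; simp [Kw]⟩
  have hy' : y ∈ Submonoid.closure (Kw '' {w | w ∈ gens}) := by
    rw [← Subgroup.mem_toSubmonoid, Subgroup.closure_toSubmonoid_of_finite] at hy
    exact hy
  induction hy' using Submonoid.closure_induction with
  | mem x hx =>
    obtain ⟨g, hg, rfl⟩ := hx
    intro v hv
    obtain ⟨i, hi, rfl⟩ := List.getElem_of_mem hv
    obtain ⟨k, hk, rfl⟩ := List.getElem_of_mem (show g ∈ gens from hg)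
    have h1 := List.all_eq_true.1 (List.all_eq_true.1 h i (List.mem_range.2 hi)) k (List.mem_range.2 hk)
    simp only [Bool.and_eq_true, Nat.blt_eq] at h1
    refine ⟨ws.getD _ [], ?_, ((Kw_eq h1.2).symm).trans ?_⟩
    · rw [List.getD_eq_getElem _ _ h1.1]; exact List.getElem_mem _
    · rw [Kw_append, List.getD_eq_getElem _ _ hi, List.getD_eq_getElem _ _ hk]
  | one => exact fun v hv => ⟨v, hv, (one_mul _).symm⟩
  | mul a b ha hb iha ihb =>
    intro v hv
    have h1 : ∀ {c : ↥kk}, c ∈ Submonoid.closure (Kw '' {w | w ∈ gens}) →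
        c ∈ Subgroup.closure (Kw '' {w | w ∈ gens}) := fun hc => Subgroup.le_closure_toSubmonoid _ hc
    obtain ⟨w, hw, e⟩ := ihb (h1 hb) v hv
    obtain ⟨w2, hw2, e2⟩ := iha (h1 ha) w hw
    exact ⟨w2, hw2, by rw [e2, e, mul_assoc]⟩

/-! ## Traces -/

/-- The sum of the diagonal slots. -/
def diagSum : ℕ → List ℕ → ℕ
  | _, [] => 0
  | i, r :: l => (r >>> (32 * i)) % SF.slotB + diagSum (i + 1) l

/-- The trace of the value of a word. -/
noncomputable def trW (n : ℕ) (G : List (List (List (ℕ × ℕ)))) (w : List ℕ) : ℕ :=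
  diagSum 0 (SF.evalP n G w) % 5

theorem slot_pk : ∀ (l : List ℕ), (∀ a ∈ l, a < 5) → ∀ j, (SF.pk l >>> (32 * j)) % SF.slotB = l.getD j 0
  | [], _, j => by simp [SF.pk]
  | a :: l, h, 0 => by
    have := h a (List.mem_cons_self ..)
    simp only [SF.pk, SF.slotB, mul_zero, Nat.shiftRight_zero, List.getD_cons_zero]
    omega
  | a :: l, h, j + 1 => by
    have := h a (List.mem_cons_self ..)
    rw [List.getD_cons_succ, ← slot_pk l (fun x hx => h x (List.mem_cons_of_mem _ hx)) j,
      show 32 * (j + 1) = 32 + 32 * j by ring, Nat.shiftRight_add, SF.pk,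
      Nat.shiftRight_eq_div_pow _ 32]
    congr 2
    simp only [SF.slotB]
    omega

theorem diagSum_spec {n : ℕ} (Y : List (List ℕ)) (h : SF.Good n Y) : ∀ i,
    diagSum i (Y.map SF.pk) = ∑ k ∈ Finset.range Y.length, (Y.getD k []).getD (i + k) 0 := by
  induction Y with
  | nil => intro i; simp [diagSum]
  | cons r l ih =>
    intro i
    rw [List.map_cons, diagSum, slot_pk r (h r (List.mem_cons_self ..)).2 i,
      ih (fun y hy => h y (List.mem_cons_of_mem _ hy)) (i + 1), List.length_cons, Finset.sum_range_succ',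
      add_comm, List.getD_cons_zero, add_zero]
    congr 1
    exact Finset.sum_congr rfl fun k _ => by rw [List.getD_cons_succ, show i + 1 + k = i + (k + 1) by ring]

theorem trW_spec {n : ℕ} {G : List (List (List (ℕ × ℕ)))} (hid : SF.idP n = (SF.idL n).map SF.pk)
    {w : List ℕ} (hw : ∀ g ∈ w, SF.okGen n (G.getD g []) = true) :
    ((trW n G w : ℕ) : ZMod 5) = Matrix.trace (SF.wordMat n G w) := by
  obtain ⟨e1, e2, e3, e4⟩ := SF.eval_spec G hid w hw
  rw [trW, ZMod.natCast_mod, e1, diagSum_spec _ e2, e3, SF.wordMat, ← e4, Nat.cast_sum,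
    Finset.sum_range fun k => ((((SF.evalL n G w).getD k []).getD (0 + k) 0 : ℕ) : ZMod 5)]
  simp [Matrix.trace, SF.toMat, Matrix.diag]

theorem trW_14 {w : List ℕ} (hw : kLet w = true) :
    ((trW 14 gTwoAll w : ℕ) : ZMod 5) =
      Matrix.trace ((kRho (Kw w) : GL (Fin 14) (ZMod 5)) : Matrix (Fin 14) (Fin 14) (ZMod 5)) := by
  rw [kRho_val hw, trW_spec gTwoPairs.idEq (eval_ok hw)]

theorem trW_conj {u w : List ℕ} (hu : kLet u = true) (hw : kLet w = true) (h : IsConj (Kw u) (Kw w)) :
    trW 14 gTwoAll u = trW 14 gTwoAll w := by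
  obtain ⟨c, hc⟩ := isConj_iff.1 h
  have e : ((trW 14 gTwoAll u : ℕ) : ZMod 5) = (trW 14 gTwoAll w : ℕ) := by
    rw [trW_14 hu, trW_14 hw, ← hc, map_mul, map_mul, map_inv, Matrix.GeneralLinearGroup.coe_mul,
      Matrix.GeneralLinearGroup.coe_mul, Matrix.trace_units_conj]
  have e2 := (ZMod.natCast_eq_natCast_iff' _ _ 5).1 e
  rwa [trW, trW, Nat.mod_mod, Nat.mod_mod] at e2

end CfsgLib.LyThree
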