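import Cfsg.Agent.Lib.LyThree.Main
import Cfsg.Agent.Lib.LyIndex.Simple

/-!
# The coset facts for the presented Lyons group
-/

set_option autoImplicit false
set_option maxRecDepth 100000

namespace CfsgLib.LyThree

open CfsgLib.LyGTwo CfsgLib.LyIndex MulAction Subgroup

theorem vt_orbit (i : ℕ) : orbit ↥kk (vt i) = orb lyCtx i := by
  ext q
  constructor
  · rintro ⟨⟨u, hu⟩, rfl⟩
    obtain ⟨m, rfl⟩ : u ∈ hLy := ofK hu
    exact ⟨m, rfl⟩
  · rintro ⟨m, rfl⟩
    exact ⟨⟨psiLy m, toK ⟨m, rfl⟩⟩, rfl⟩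

theorem cosetFacts : CosetFacts where
  ord i := by
    have h1 := card_mul_index (stabilizer ↥kk (vt i.val))
    rw [index_stabilizer, vt_orbit, kk_card,
      show (orb lyCtx i.val).ncard = orbSize i.val by
        rw [show orb lyCtx i.val = ↑(orbF lyCtx i.val) from Set.ext fun x => (mem_orbF lyCtx).symm,
          Set.ncard_coe_finset, orb_card lyCtx lyCtx_lab ly_vert i.isLt]] at h1
    rw [show vStab i.val = stabilizer ↥kk (vt i.val) from rfl]
    have key : ∀ k : Fin 5, orbSize k.val * vOrd k = 5859000000 ∧ 0 < orbSize k.val := by decide +kernel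
    obtain ⟨k1, k2⟩ := key i
    refine Nat.eq_of_mul_eq_mul_left k2 ?_
    rw [k1, mul_comm]
    exact h1
  dist i j h := by
    obtain ⟨_, ⟨m, rfl⟩, hm⟩ := h
    exact Fin.ext (orb_inj lyCtx lyCtx_lab ly_vert i.isLt j.isLt ((mem_orb_iff lyCtx m i.val j.val).1 ⟨1, by
      show lyCtx.psi 1 • vert lyCtx j.val = lyCtx.psi m • vert lyCtx i.val
      rw [map_one, one_smul]; exact hm.symm⟩))

end CfsgLib.LyThree
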