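import Mathlib.GroupTheory.GroupAction.Quotient
import Mathlib.GroupTheory.Subgroup.Centralizer
import Mathlib.GroupTheory.Index
import Mathlib.Algebra.BigOperators.Fin
import Mathlib.Tactic.Group

/-!
# The fixed cosets of an element and its centraliser

`K` a subgroup with double coset representatives `g i`, and `x ∈ K`.
-/

set_option autoImplicit false

namespace CfsgLib.LyThree

open Subgroup MulAction

variable {G : Type*} [Group G]

/-- The cosets fixed by an element. -/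
def fixSet (K : Subgroup G) (x : G) : Set (G ⧸ K) := {p | x • p = p}

theorem mem_fixSet {K : Subgroup G} {x a : G} :
    ((a : G ⧸ K) ∈ fixSet K x) ↔ a⁻¹ * x * a ∈ K := by
  rw [fixSet, Set.mem_setOf_eq, MulAction.Quotient.smul_coe, smul_eq_mul, eq_comm, QuotientGroup.eq,
    mul_assoc]

/-- The data of the five double cosets. -/
structure FixData (K : Subgroup G) (x : G) (n : ℕ) where
  g : Fin n → G
  k : Fin n → G
  x_mem : x ∈ K
  k_mem : ∀ i, k i ∈ K
  cover : ∀ a : G, ∃ i, ∃ u ∈ K, ∃ v ∈ K, a = u * g i * v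
  distinct : ∀ i j, ∀ u ∈ K, ∀ v ∈ K, u * g i * v = g j → i = j
  seed : ∀ i, (g i)⁻¹ * ((k i)⁻¹ * x * k i) * g i ∈ K
  fuse : ∀ y ∈ K, IsConj x y → ∃ t ∈ K, t * x * t⁻¹ = y
  complete : ∀ i, ∀ y ∈ K, (g i)⁻¹ * y * g i ∈ K → IsConj x y →
    ∃ t ∈ K, (g i)⁻¹ * t * g i ∈ K ∧ t * ((k i)⁻¹ * x * k i) * t⁻¹ = y

namespace FixData

variable {K : Subgroup G} {x : G} {n : ℕ} (D : FixData K x n)
include D

/-- The chosen point of a piece. -/
def pt (i : Fin n) : G ⧸ K := ((D.k i * D.g i : G) : G ⧸ K)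

theorem exists_piece {p : G ⧸ K} (hp : p ∈ fixSet K x) :
    ∃ i, ∃ u ∈ K ⊓ centralizer {x}, u • D.pt i = p := by
  induction p using QuotientGroup.induction_on with
  | H a =>
    rw [mem_fixSet] at hp
    obtain ⟨i, u, hu, v, hv, rfl⟩ := D.cover a
    have h1 : (D.g i)⁻¹ * (u⁻¹ * x * u) * D.g i ∈ K := by
      have := mul_mem (mul_mem hv hp) (inv_mem hv)
      simpa [mul_assoc] using this
    obtain ⟨t, ht, htg, e⟩ := D.complete i (u⁻¹ * x * u)
      (mul_mem (mul_mem (inv_mem hu) D.x_mem) hu) h1 (isConj_iff.2 ⟨u⁻¹, by group⟩)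
    have hc : u * t * (D.k i)⁻¹ * x = x * (u * t * (D.k i)⁻¹) := by
      calc u * t * (D.k i)⁻¹ * x
          = u * (t * ((D.k i)⁻¹ * x * D.k i) * t⁻¹) * t * (D.k i)⁻¹ := by group
        _ = x * (u * t * (D.k i)⁻¹) := by rw [e]; group
    refine ⟨i, u * t * (D.k i)⁻¹,
      mem_inf.2 ⟨mul_mem (mul_mem hu ht) (inv_mem (D.k_mem i)), mem_centralizer_singleton_iff.2 hc⟩, ?_⟩
    rw [pt, MulAction.Quotient.smul_coe, smul_eq_mul, QuotientGroup.eq]
    have := mul_mem (inv_mem htg) hv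
    simpa [mul_assoc, mul_inv_rev] using this

theorem pt_fixed (i : Fin n) : D.pt i ∈ fixSet K x := by
  rw [pt, mem_fixSet]
  simpa [mul_assoc, mul_inv_rev] using D.seed i

theorem piece_inj {i j : Fin n} {p : G ⧸ K} (hi : p ∈ orbit ↥(K ⊓ centralizer {x}) (D.pt i))
    (hj : p ∈ orbit ↥(K ⊓ centralizer {x}) (D.pt j)) : i = j := by
  obtain ⟨⟨u, hu⟩, rfl⟩ := hi
  obtain ⟨⟨w, hw⟩, e⟩ := hj
  replace e : w • D.pt j = u • D.pt i := e
  simp only [pt, MulAction.Quotient.smul_coe, smul_eq_mul, QuotientGroup.eq] at e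
  refine D.distinct i j ((D.k j)⁻¹ * w⁻¹ * u * D.k i) ?_
    (((w * (D.k j * D.g j))⁻¹ * (u * (D.k i * D.g i)))⁻¹) (inv_mem e) ?_
  · exact mul_mem (mul_mem (mul_mem (inv_mem (D.k_mem j)) (inv_mem (mem_inf.1 hw).1))
      (mem_inf.1 hu).1) (D.k_mem i)
  · group

theorem fixed_transitive {p : G ⧸ K} (hp : p ∈ fixSet K x) :
    ∃ c ∈ centralizer {x}, c • ((1 : G) : G ⧸ K) = p := by
  induction p using QuotientGroup.induction_on with
  | H a =>
    rw [mem_fixSet] at hp
    obtain ⟨t, ht, e⟩ := D.fuse _ hp (isConj_iff.2 ⟨a⁻¹, by group⟩)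
    refine ⟨a * t, mem_centralizer_singleton_iff.2 ?_, ?_⟩
    · calc a * t * x = a * (t * x * t⁻¹) * t := by group
        _ = x * (a * t) := by rw [e]; group
    · rw [MulAction.Quotient.smul_coe, smul_eq_mul, mul_one, QuotientGroup.eq]
      simpa [mul_assoc, mul_inv_rev] using inv_mem ht

theorem orbit_base : orbit ↥(centralizer {x}) ((1 : G) : G ⧸ K) = fixSet K x := by
  ext p
  constructor
  · rintro ⟨⟨c, hc⟩, rfl⟩
    show c • ((1 : G) : G ⧸ K) ∈ fixSet K x
    rw [MulAction.Quotient.smul_coe, smul_eq_mul, mul_one, mem_fixSet, mul_assoc, ← mem_centralizer_singleton_iff.1 hc, inv_mul_cancel_left]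
    exact D.x_mem
  · intro hp
    obtain ⟨c, hc, e⟩ := D.fixed_transitive hp
    exact ⟨⟨c, hc⟩, e⟩

theorem stabilizer_base :
    stabilizer ↥(centralizer {x}) ((1 : G) : G ⧸ K) = K.subgroupOf (centralizer {x}) := by
  ext ⟨c, hc⟩
  rw [mem_stabilizer_iff, mem_subgroupOf]
  show c • ((1 : G) : G ⧸ K) = _ ↔ c ∈ K
  rw [MulAction.Quotient.smul_coe, smul_eq_mul, mul_one, QuotientGroup.eq, mul_one, inv_mem_iff]

theorem fixSet_eq : fixSet K x = ⋃ i, orbit ↥(K ⊓ centralizer {x}) (D.pt i) := by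
  ext p
  rw [Set.mem_iUnion]
  constructor
  · intro hp
    obtain ⟨i, u, hu, e⟩ := D.exists_piece hp
    exact ⟨i, ⟨u, hu⟩, e⟩
  · rintro ⟨i, ⟨u, hu⟩, rfl⟩
    have h := D.pt_fixed i
    simp only [fixSet, Set.mem_setOf_eq] at h ⊢
    show x • u • D.pt i = u • D.pt i
    rw [smul_smul, ← mem_centralizer_singleton_iff.1 (mem_inf.1 hu).2, ← smul_smul, h]

theorem card_fixSet [Finite G] :
    Nat.card (fixSet K x) = ∑ i, Nat.card (orbit ↥(K ⊓ centralizer {x}) (D.pt i)) := by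
  rw [D.fixSet_eq, Nat.card_congr (Set.unionEqSigmaOfDisjoint fun i j hij =>
    Set.disjoint_left.2 fun p hi hj => hij (D.piece_inj hi hj)), Nat.card_sigma]

theorem card_centralizer [Finite G] :
    Nat.card ↥(centralizer {x}) = Nat.card ↥(K ⊓ centralizer {x}) * Nat.card (fixSet K x) := by
  rw [← Subgroup.card_mul_index (stabilizer ↥(centralizer {x}) ((1 : G) : G ⧸ K)), index_stabilizer,
    Nat.card_coe_set_eq, D.orbit_base, D.stabilizer_base]
  congr 1
  exact (Nat.card_congr (subgroupOfEquivOfLe (inf_le_right (a := K))).toEquiv).symm.trans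
    (by rw [Subgroup.inf_subgroupOf_right]) |>.symm

/-- The stabiliser of a chosen point, in the piece group. -/
theorem card_piece [Finite G] (i : Fin n) :
    Nat.card (orbit ↥(K ⊓ centralizer {x}) (D.pt i)) *
      Nat.card ↥(stabilizer ↥(K ⊓ centralizer {x}) (D.pt i)) = Nat.card ↥(K ⊓ centralizer {x}) := by
  rw [← Subgroup.card_mul_index (stabilizer ↥(K ⊓ centralizer {x}) (D.pt i)), index_stabilizer,
    Nat.card_coe_set_eq, mul_comm]

end FixData

end CfsgLib.LyThree
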