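import Mathlib.Data.List.Basic

/-! Data of a Sylow 3-subgroup of `kk` (generated). -/

set_option autoImplicit false
set_option maxRecDepth 100000

namespace CfsgLib.LyThree

/-- Generators. -/
def sylGens : List (List ℕ) := [
  [7, 5, 2, 1, 8, 1, 5, 7, 0, 2, 6, 3, 1],
  [5, 1, 1, 5, 1, 1, 5, 7, 0, 2, 6, 8, 6, 7, 0, 2]]

/-- The elements. -/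
def sylEls : List (List ℕ) := [
  [],
  [7, 5, 2, 1, 8, 1, 5, 7, 0, 2, 6, 3, 1],
  [5, 1, 1, 5, 1, 1, 5, 7, 0, 2, 6, 8, 6, 7, 0, 2],
  [7, 5, 2, 1, 8, 1, 5, 7, 0, 2, 6, 3, 1, 7, 5, 2, 1, 8, 1, 5, 7, 0, 2, 6, 3, 1],
  [5, 1, 1, 5, 1, 1, 5, 7, 0, 2, 6, 8, 8, 1, 5, 7, 0, 2, 6, 3, 1],
  [7, 5, 2, 1, 8, 1, 5, 7, 0, 2, 6, 3, 1, 5, 1, 1, 5, 1, 1, 5, 7, 0, 2, 6, 8, 6, 7, 0, 2],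
  [5, 1, 1, 5, 1, 1, 5, 7, 0, 2, 6, 8, 6, 7, 0, 2, 5, 1, 1, 5, 1, 1, 5, 7, 0, 2, 6, 8, 6, 7, 0, 2],
  [5, 1, 1, 5, 1, 1, 5, 7, 0, 2, 6, 8, 8, 1, 5, 7, 0, 2, 6, 3, 1, 7, 5, 2, 1, 8, 1, 5, 7, 0, 2, 6, 3, 1],
  [7, 5, 2, 1, 8, 1, 5, 7, 0, 2, 6, 3, 1, 5, 1, 1, 5, 1, 1, 5, 7, 0, 2, 6, 8, 8, 1, 5, 7, 0, 2, 6, 3, 1],
  [5, 1, 1, 5, 1, 1, 5, 7, 0, 2, 6, 8, 6, 7, 0, 2, 5, 1, 1, 5, 1, 1, 5, 7, 0, 2, 6, 8, 8, 1, 5, 7, 0, 2, 6, 3, 1],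
  [7, 5, 2, 1, 8, 1, 5, 7, 0, 2, 6, 3, 1, 7, 5, 2, 1, 8, 1, 5, 7, 0, 2, 6, 3, 1, 5, 1, 1, 5, 1, 1, 5, 7, 0, 2, 6, 8, 6, 7, 0, 2],
  [5, 1, 1, 5, 1, 1, 5, 7, 0, 2, 6, 8, 8, 1, 5, 7, 0, 2, 6, 3, 1, 5, 1, 1, 5, 1, 1, 5, 7, 0, 2, 6, 8, 6, 7, 0, 2],
  [7, 5, 2, 1, 8, 1, 5, 7, 0, 2, 6, 3, 1, 5, 1, 1, 5, 1, 1, 5, 7, 0, 2, 6, 8, 6, 7, 0, 2, 5, 1, 1, 5, 1, 1, 5, 7, 0, 2, 6, 8, 6, 7, 0, 2],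
  [7, 5, 2, 1, 8, 1, 5, 7, 0, 2, 6, 3, 1, 5, 1, 1, 5, 1, 1, 5, 7, 0, 2, 6, 8, 8, 1, 5, 7, 0, 2, 6, 3, 1, 7, 5, 2, 1, 8, 1, 5, 7, 0, 2, 6, 3, 1],
  [5, 1, 1, 5, 1, 1, 5, 7, 0, 2, 6, 8, 6, 7, 0, 2, 5, 1, 1, 5, 1, 1, 5, 7, 0, 2, 6, 8, 8, 1, 5, 7, 0, 2, 6, 3, 1, 7, 5, 2, 1, 8, 1, 5, 7, 0, 2, 6, 3, 1],
  [7, 5, 2, 1, 8, 1, 5, 7, 0, 2, 6, 3, 1, 7, 5, 2, 1, 8, 1, 5, 7, 0, 2, 6, 3, 1, 5, 1, 1, 5, 1, 1, 5, 7, 0, 2, 6, 8, 8, 1, 5, 7, 0, 2, 6, 3, 1],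
  [5, 1, 1, 5, 1, 1, 5, 7, 0, 2, 6, 8, 8, 1, 5, 7, 0, 2, 6, 3, 1, 5, 1, 1, 5, 1, 1, 5, 7, 0, 2, 6, 8, 8, 1, 5, 7, 0, 2, 6, 3, 1],
  [7, 5, 2, 1, 8, 1, 5, 7, 0, 2, 6, 3, 1, 5, 1, 1, 5, 1, 1, 5, 7, 0, 2, 6, 8, 6, 7, 0, 2, 5, 1, 1, 5, 1, 1, 5, 7, 0, 2, 6, 8, 8, 1, 5, 7, 0, 2, 6, 3, 1],
  [5, 1, 1, 5, 1, 1, 5, 7, 0, 2, 6, 8, 6, 7, 0, 2, 5, 1, 1, 5, 1, 1, 5, 7, 0, 2, 6, 8, 8, 1, 5, 7, 0, 2, 6, 3, 1, 5, 1, 1, 5, 1, 1, 5, 7, 0, 2, 6, 8, 6, 7, 0, 2],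
  [5, 1, 1, 5, 1, 1, 5, 7, 0, 2, 6, 8, 8, 1, 5, 7, 0, 2, 6, 3, 1, 5, 1, 1, 5, 1, 1, 5, 7, 0, 2, 6, 8, 6, 7, 0, 2, 5, 1, 1, 5, 1, 1, 5, 7, 0, 2, 6, 8, 6, 7, 0, 2],
  [7, 5, 2, 1, 8, 1, 5, 7, 0, 2, 6, 3, 1, 7, 5, 2, 1, 8, 1, 5, 7, 0, 2, 6, 3, 1, 5, 1, 1, 5, 1, 1, 5, 7, 0, 2, 6, 8, 8, 1, 5, 7, 0, 2, 6, 3, 1, 7, 5, 2, 1, 8, 1, 5, 7, 0, 2, 6, 3, 1],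
  [5, 1, 1, 5, 1, 1, 5, 7, 0, 2, 6, 8, 8, 1, 5, 7, 0, 2, 6, 3, 1, 5, 1, 1, 5, 1, 1, 5, 7, 0, 2, 6, 8, 8, 1, 5, 7, 0, 2, 6, 3, 1, 7, 5, 2, 1, 8, 1, 5, 7, 0, 2, 6, 3, 1],
  [7, 5, 2, 1, 8, 1, 5, 7, 0, 2, 6, 3, 1, 5, 1, 1, 5, 1, 1, 5, 7, 0, 2, 6, 8, 6, 7, 0, 2, 5, 1, 1, 5, 1, 1, 5, 7, 0, 2, 6, 8, 8, 1, 5, 7, 0, 2, 6, 3, 1, 7, 5, 2, 1, 8, 1, 5, 7, 0, 2, 6, 3, 1],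
  [5, 1, 1, 5, 1, 1, 5, 7, 0, 2, 6, 8, 6, 7, 0, 2, 5, 1, 1, 5, 1, 1, 5, 7, 0, 2, 6, 8, 8, 1, 5, 7, 0, 2, 6, 3, 1, 5, 1, 1, 5, 1, 1, 5, 7, 0, 2, 6, 8, 8, 1, 5, 7, 0, 2, 6, 3, 1],
  [5, 1, 1, 5, 1, 1, 5, 7, 0, 2, 6, 8, 8, 1, 5, 7, 0, 2, 6, 3, 1, 5, 1, 1, 5, 1, 1, 5, 7, 0, 2, 6, 8, 6, 7, 0, 2, 5, 1, 1, 5, 1, 1, 5, 7, 0, 2, 6, 8, 8, 1, 5, 7, 0, 2, 6, 3, 1],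
  [5, 1, 1, 5, 1, 1, 5, 7, 0, 2, 6, 8, 6, 7, 0, 2, 5, 1, 1, 5, 1, 1, 5, 7, 0, 2, 6, 8, 8, 1, 5, 7, 0, 2, 6, 3, 1, 5, 1, 1, 5, 1, 1, 5, 7, 0, 2, 6, 8, 8, 1, 5, 7, 0, 2, 6, 3, 1, 7, 5, 2, 1, 8, 1, 5, 7, 0, 2, 6, 3, 1],
  [5, 1, 1, 5, 1, 1, 5, 7, 0, 2, 6, 8, 8, 1, 5, 7, 0, 2, 6, 3, 1, 5, 1, 1, 5, 1, 1, 5, 7, 0, 2, 6, 8, 6, 7, 0, 2, 5, 1, 1, 5, 1, 1, 5, 7, 0, 2, 6, 8, 8, 1, 5, 7, 0, 2, 6, 3, 1, 7, 5, 2, 1, 8, 1, 5, 7, 0, 2, 6, 3, 1]]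

/-- Left multiplication. -/
def sylNext : List (List ℕ) := [
  [1, 2],
  [3, 4],
  [5, 6],
  [0, 7],
  [8, 9],
  [10, 11],
  [12, 0],
  [13, 14],
  [15, 16],
  [17, 1],
  [2, 17],
  [14, 18],
  [16, 19],
  [20, 21],
  [22, 3],
  [4, 22],
  [6, 23],
  [21, 24],
  [23, 5],
  [24, 20],
  [7, 12],
  [9, 25],
  [11, 26],
  [25, 8],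
  [26, 10],
  [18, 13],
  [19, 15]]

/-- Words of the classes other than the first. -/
def sylRoots : List (List ℕ) := [
  [7, 5, 2, 1, 8, 1, 5, 7, 0, 2, 6, 3, 1],
  [5, 1, 1, 5, 1, 1, 5, 7, 0, 2, 6, 8, 6, 7, 0, 2],
  [5, 1, 1, 5, 1, 1, 5, 7, 0, 2, 6, 8, 8, 1, 5, 7, 0, 2, 6, 3, 1],
  [7, 5, 2, 1, 8, 1, 5, 7, 0, 2, 6, 3, 1, 7, 5, 2, 1, 8, 1, 5, 7, 0, 2, 6, 3, 1],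
  [5, 1, 1, 5, 1, 1, 5, 7, 0, 2, 6, 8, 6, 7, 0, 2, 5, 1, 1, 5, 1, 1, 5, 7, 0, 2, 6, 8, 6, 7, 0, 2],
  [7, 5, 2, 1, 8, 1, 5, 7, 0, 2, 6, 3, 1, 5, 1, 1, 5, 1, 1, 5, 7, 0, 2, 6, 8, 6, 7, 0, 2, 5, 1, 1, 5, 1, 1, 5, 7, 0, 2, 6, 8, 8, 1, 5, 7, 0, 2, 6, 3, 1],
  [5, 1, 1, 5, 1, 1, 5, 7, 0, 2, 6, 8, 6, 7, 0, 2, 5, 1, 1, 5, 1, 1, 5, 7, 0, 2, 6, 8, 8, 1, 5, 7, 0, 2, 6, 3, 1, 5, 1, 1, 5, 1, 1, 5, 7, 0, 2, 6, 8, 6, 7, 0, 2],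
  [5, 1, 1, 5, 1, 1, 5, 7, 0, 2, 6, 8, 8, 1, 5, 7, 0, 2, 6, 3, 1, 5, 1, 1, 5, 1, 1, 5, 7, 0, 2, 6, 8, 6, 7, 0, 2, 5, 1, 1, 5, 1, 1, 5, 7, 0, 2, 6, 8, 8, 1, 5, 7, 0, 2, 6, 3, 1]]

/-- Class and conjugator of each element. -/
def sylTag : List (ℕ × List ℕ) := [
  (0, []),
  (2, []),
  (3, []),
  (5, []),
  (4, []),
  (4, [8, 5, 1, 0, 1, 3]),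
  (6, []),
  (6, [6, 0, 6, 3, 0]),
  (3, [5, 8, 1, 5, 1, 7, 0, 7, 0, 7, 8]),
  (3, [5, 8, 1, 5, 1, 7, 0, 7, 0, 7, 8, 8, 8, 7, 0, 2, 5, 7]),
  (3, [5, 8, 1, 5, 1, 8, 8, 7, 0, 2, 5, 7]),
  (6, [5, 8, 1, 5, 1, 7, 0, 7, 0, 7, 8]),
  (3, [6, 0, 6, 3, 0]),
  (6, [7, 0, 7, 0, 7, 8]),
  (4, [3]),
  (3, [7, 0, 7, 0, 7, 8, 8, 8, 7, 0, 2, 5, 7]),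
  (4, [5, 1, 0, 1, 3]),
  (7, []),
  (8, []),
  (2, [6, 0, 6, 3, 0]),
  (7, [3]),
  (3, [8, 8, 7, 0, 2, 5, 7]),
  (3, [7, 0, 7, 0, 7, 8]),
  (5, [6, 0, 6, 3, 0]),
  (9, []),
  (1, []),
  (1, [6, 0, 1, 7, 5, 2, 0])]

end CfsgLib.LyThree
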