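import Cfsg.Agent.Lib.LyThree.OrbCheck
import Cfsg.Agent.Lib.LyThree.FuseData

/-!
# Fusion in the presented Lyons group of elements of order three of `kk`
-/

set_option autoImplicit false
set_option maxRecDepth 200000

namespace CfsgLib.LyThree

open CfsgLib.LyGTwo Subgroup Matrix

/-- The check of the tags. -/
noncomputable def tagOk (i : ℕ) : Bool :=
  match sylTag.getD i (99, []) with
  | (0, _) => (sylEls.getD i [0]).isEmpty
  | (1, c) => kSame (sylEls.getD i []) (c ++ xW ++ invW c)
  | (r + 2, c) => Nat.blt r sylRoots.length &&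
      kSame (sylEls.getD i []) (c ++ sylRoots.getD r [] ++ invW c)

theorem fuse_closed : sylEls.all kLet = true ∧ allDiff (valsOf sylEls) = true ∧
    leftClosed sylGens sylEls sylNext = true ∧ sylEls.length = 27 ∧ sylEls.head? = some [] := by
  refine ⟨?_, ?_, ?_, ?_, ?_⟩ <;> decide +kernel

theorem fuse_tags : ((List.range 27).all tagOk) = true := by decide +kernel

theorem fuse_roots : (sylRoots.all fun w =>
    kLet w && !Nat.beq (trW 111 repAll w) (trW 111 repAll xW)) = true := by decide +kernel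

theorem rep_kv {g : ℕ} (hg : g < 4) : repHom (kv g : Cfsg.Spor.Ly) = repPairs.unit g := by
  rw [kv_val hg]
  rcases g with _ | _ | _ | _ | g
  all_goals first
    | omega
    | (simp only [fLy, repHom]
       rw [PresentedGroup.toGroup.of]
       simp [genV, defW, prodV, letV])

theorem rep_word {w : List ℕ} (hw : kLet w = true) :
    repHom ((Kw w : ↥kk) : Cfsg.Spor.Ly) = prodV repPairs.unit w := by
  show (repHom.comp kk.subtype) (Kw w) = _
  rw [Kw, map_prodV]
  unfold prodV
  congr 1
  refine List.map_congr_left fun g hg => ?_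
  rcases kLet_iff.1 hw g hg with h | h
  · simp only [letV, if_pos (show g % 10 < 5 by omega)]
    rw [Nat.mod_eq_of_lt (show g < 10 by omega)]
    exact rep_kv h
  · simp only [letV, if_neg (show ¬g % 10 < 5 by omega)]
    rw [Nat.mod_eq_of_lt (show g < 10 by omega)]
    exact congrArg Inv.inv (rep_kv (show g - 5 < 4 by omega))

theorem trW_111 {w : List ℕ} (hw : kLet w = true) :
    ((trW 111 repAll w : ℕ) : ZMod 5) =
      Matrix.trace ((repHom ((Kw w : ↥kk) : Cfsg.Spor.Ly) : GL (Fin 111) (ZMod 5)) :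
        Matrix (Fin 111) (Fin 111) (ZMod 5)) := by
  rw [rep_word hw, repPairs.word_val (lt_ten hw), trW_spec repPairs.idEq]
  intro g hg
  have := lt_ten hw g hg
  rw [List.getD_eq_getElem _ _ (by rw [repPairs.len]; exact this)]
  exact List.all_eq_true.1 repPairs.ok _ (List.getElem_mem _)

theorem trW_conj_ly {u w : List ℕ} (hu : kLet u = true) (hw : kLet w = true)
    (h : IsConj ((Kw u : ↥kk) : Cfsg.Spor.Ly) ((Kw w : ↥kk) : Cfsg.Spor.Ly)) :
    trW 111 repAll u = trW 111 repAll w := by
  obtain ⟨c, hc⟩ := isConj_iff.1 h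
  have e : ((trW 111 repAll u : ℕ) : ZMod 5) = (trW 111 repAll w : ℕ) := by
    rw [trW_111 hu, trW_111 hw, ← hc, map_mul, map_mul, map_inv, Matrix.GeneralLinearGroup.coe_mul,
      Matrix.GeneralLinearGroup.coe_mul, Matrix.trace_units_conj]
  have e2 := (ZMod.natCast_eq_natCast_iff' _ _ 5).1 e
  rwa [trW, trW, Nat.mod_mod, Nat.mod_mod] at e2

theorem xk_cube : xk ^ 3 = 1 := by
  rw [xk, ← Kw_replicate]
  exact Kw_eq (by decide +kernel : kSame (List.replicate 3 xW).flatten [] = true)

theorem xk_ne_one : xk ≠ 1 := Kw_ne (by decide +kernel : kDiff xW [] = true)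

theorem syl_parent : ((List.range 27).all fun i => Nat.beq i 0 || (List.range i).any fun p =>
    (List.range sylGens.length).any fun g => Nat.beq ((sylNext.getD p []).getD g 0) i) = true := by
  decide +kernel

theorem syl_mem {w : List ℕ} (hw : w ∈ sylEls) : Kw w ∈ closure (Kw '' {w | w ∈ sylGens}) := by
  obtain ⟨hk, hd, hcl, hlen, hhead⟩ := fuse_closed
  obtain ⟨i, hi, rfl⟩ := List.getElem_of_mem hw
  induction i using Nat.strong_induction_on with
  | _ i ih =>
    rcases Nat.eq_zero_or_pos i with rfl | hpos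
    · rw [show sylEls[0] = [] from Option.some.inj ((List.head?_eq_getElem? (l := sylEls) ▸
        (List.getElem?_eq_getElem hi).symm).trans hhead)]
      exact one_mem _
    · have := List.all_eq_true.1 syl_parent i (List.mem_range.2 (by omega))
      simp only [Bool.or_eq_true, Nat.beq_eq, List.any_eq_true, List.mem_range] at this
      obtain ⟨p, hp, g, hg, e⟩ := this.resolve_left (by omega)
      have h1 := List.all_eq_true.1 (List.all_eq_true.1 hcl p (List.mem_range.2 (by omega))) g
        (List.mem_range.2 hg)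
      simp only [Bool.and_eq_true] at h1
      have e2 := Kw_eq h1.2
      rw [e, List.getD_eq_getElem _ _ hg, List.getD_eq_getElem _ _ (show p < sylEls.length by omega),
        List.getD_eq_getElem _ _ hi, Kw_append] at e2
      rw [← e2]
      exact mul_mem (subset_closure ⟨_, List.getElem_mem hg, rfl⟩) (ih p hp (by omega) (List.getElem_mem _))

theorem fuse {y : ↥kk} (h : IsConj (xk : Cfsg.Spor.Ly) (y : Cfsg.Spor.Ly)) :
    ∃ t : ↥kk, t * xk * t⁻¹ = y := by
  classical
  obtain ⟨hk, hd, hcl, hlen, hhead⟩ := fuse_closed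
  obtain ⟨c, hc⟩ := isConj_iff.1 h
  have hx3 : (xk : Cfsg.Spor.Ly) ^ 3 = 1 := by
    rw [← SubmonoidClass.coe_pow, xk_cube]; rfl
  have hy3 : y ^ 3 = 1 := Subtype.ext (by
    rw [SubmonoidClass.coe_pow, ← hc, conj_pow, hx3, mul_one, mul_inv_cancel, OneMemClass.coe_one])
  have hy1 : y ≠ 1 := fun hh => xk_ne_one (Subtype.ext (by
    rw [hh, OneMemClass.coe_one, mul_inv_eq_one, mul_eq_left] at hc
    exact hc))
  have hnil : [] ∈ sylEls := List.mem_of_mem_head? hhead
  set P := closure (Kw '' {w | w ∈ sylGens})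
  have hP : 27 ∣ Nat.card ↥P ∧ Nat.card ↥P ≤ 27 := by
    have hle : Nat.card ↥P ≤ 27 := by
      have hsub : (P : Set ↥kk) ⊆ ↑((sylEls.map Kw).toFinset) := fun y hy => by
        obtain ⟨w, hw, e⟩ := leftClosed_spec hcl hnil hy
        simpa using ⟨w, hw, e⟩
      have := Set.ncard_le_ncard hsub (Finset.finite_toSet _)
      rw [Set.ncard_coe_finset, List.toFinset_card_of_nodup (Kw_nodup hk hd), List.length_map, hlen] at this
      rwa [← Nat.card_coe_set_eq] at this
    have hge : 27 ≤ Nat.card ↥P := by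
      rw [← hlen]
      refine card_ge_of_nodup hk hd fun w hw => ?_
      exact syl_mem hw
    exact ⟨(le_antisymm hle hge).symm ▸ dvd_rfl, hle⟩
  have hidx : ¬3 ∣ P.index := by
    have h1 := card_mul_index P
    rw [kk_card, Nat.le_antisymm hP.2 (Nat.le_of_dvd Nat.card_pos hP.1)] at h1
    omega
  obtain ⟨t, ht⟩ := conj_mem_of_index P hidx hy3
  obtain ⟨w, hw, e⟩ := leftClosed_spec hcl hnil ht
  obtain ⟨i, hi, rfl⟩ := List.getElem_of_mem hw
  have htag := List.all_eq_true.1 fuse_tags i (List.mem_range.2 (by omega))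
  have hid : sylEls.getD i [] = sylEls[i] := List.getD_eq_getElem _ _ hi
  have hy : y = t * Kw sylEls[i] * t⁻¹ := by rw [e]; group
  simp only [tagOk] at htag
  split at htag
  · exfalso
    rw [List.getD_eq_getElem _ _ hi, List.isEmpty_iff] at htag
    exact hy1 (by rw [hy, htag]; simp [Kw])
  · rename_i c heq
    refine ⟨t * Kw c, ?_⟩
    rw [hy, ← hid, Kw_eq htag, Kw_conj, _root_.mul_inv_rev]
    simp only [xk, mul_assoc]
  · rename_i r c heq
    exfalso
    simp only [Bool.and_eq_true, Nat.blt_eq] at htag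
    have hr := List.all_eq_true.1 fuse_roots _ (List.getElem_mem htag.1)
    simp only [Bool.and_eq_true, Bool.not_eq_true'] at hr
    have hc2 : IsConj ((Kw sylRoots[r] : ↥kk) : Cfsg.Spor.Ly) (y : Cfsg.Spor.Ly) := by
      refine isConj_iff.2 ⟨((t * Kw c : ↥kk) : Cfsg.Spor.Ly), ?_⟩
      rw [hy, ← hid, Kw_eq htag.2, Kw_conj, List.getD_eq_getElem _ _ htag.1]
      push_cast
      group
    rw [← trW_conj_ly cert_comm.2.2.1 hr.1 (h.trans hc2.symm), Nat.beq_refl] at hr
    exact absurd hr.2 (by decide)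

end CfsgLib.LyThree
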