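import Cfsg.Agent.Lib.LyGTwo.Main

/-!
# The subgroup on a, b, c, d of the presented Lyons group as a matrix group of degree 14
-/

set_option autoImplicit false
set_option maxRecDepth 100000

namespace CfsgLib.LyThree

open CfsgLib.LyGTwo Cfsg.Lie

local instance : Fact (Nat.Prime 5) := ⟨by norm_num⟩

/-- The subgroup on a, b, c, d. -/
def kk : Subgroup Cfsg.Spor.Ly := Subgroup.closure (fLy '' {g | g < 4})

/-- The four generators, padded by one. -/
def kv (g : ℕ) : ↥kk := if h : g < 4 then ⟨fLy g, Subgroup.subset_closure ⟨g, h, rfl⟩⟩ else 1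

theorem kv_val {g : ℕ} (hg : g < 4) : (kv g : Cfsg.Spor.Ly) = fLy g := by
  rw [kv, dif_pos hg]

/-- The element of a word. -/
def Kw (w : List ℕ) : ↥kk := prodV kv w

/-- Letters of `kk`. -/
def kLet (w : List ℕ) : Bool := w.all fun g => Nat.blt g 4 || (Nat.ble 5 g && Nat.blt g 9)

theorem kLet_iff {w : List ℕ} : kLet w = true ↔ ∀ g ∈ w, g < 4 ∨ 5 ≤ g ∧ g < 9 := by
  simp [kLet, List.all_eq_true, Nat.blt_eq]

theorem kk_data : ∃ ρ : ↥kk →* GL (Fin 14) (ZMod 5), Function.Injective ρ ∧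
    (∀ g, g < 4 → ρ (kv g) = gTwoPairs.unit g) ∧ Nat.card ↥kk = 5859000000 ∧
      IsSimpleGroup ↥kk ∧ ∀ j, prodV kv (rel44 j) = 1 := by
  obtain ⟨hfin, hcard⟩ := card_le pairF pairF_rels
  set Y := Subgroup.closure (pairF '' {g | g < 4})
  let p : ↥Y →* ↥(chevG2.group (ZMod 5)) := (MonoidHom.fst _ _).comp Y.subtype
  have hp : Function.Surjective p := by
    intro x
    have hx : x ∈ Y.map (MonoidHom.fst _ _) := by
      rw [MonoidHom.map_closure, Set.image_image]
      exact gG_top.symm ▸ Subgroup.mem_top x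
    obtain ⟨y, hy, e⟩ := hx
    exact ⟨⟨y, hy⟩, e⟩
  have hb : Function.Bijective p := by
    have h := Nat.card_le_card_of_surjective p hp
    exact (Nat.bijective_iff_surjective_and_card p).2
      ⟨hp, le_antisymm (hcard.trans_eq gTwo_card.symm) h⟩
  let e : ↥Y ≃* ↥(chevG2.group (ZMod 5)) := MulEquiv.ofBijective p hb
  let q : ↥(chevG2.group (ZMod 5)) →* Cfsg.Spor.Ly :=
    ((MonoidHom.snd _ _).comp Y.subtype).comp e.symm.toMonoidHom
  have hqg : ∀ g, g < 4 → q (gG g) = fLy g := by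
    intro g hg
    have h1 : e ⟨pairF g, Subgroup.subset_closure ⟨g, hg, rfl⟩⟩ = gG g := rfl
    show ((e.symm (gG g) : ↥Y) : ↥(chevG2.group (ZMod 5)) × Cfsg.Spor.Ly).2 = fLy g
    rw [← h1, MulEquiv.symm_apply_apply]
    rfl
  have := gTwo_simple
  have hq : q.range = kk := by
    rw [MonoidHom.range_eq_map, ← gG_top, MonoidHom.map_closure, kk, Set.image_image]
    congr 1
    exact Set.image_congr fun g hg => hqg g hg
  have hker : q.ker = ⊥ := by
    rcases IsSimpleGroup.eq_bot_or_eq_top_of_normal q.ker (MonoidHom.normal_ker q) with h | h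
    · exact h
    · exfalso
      have ht1 : gG 0 ∈ q.ker := h ▸ Subgroup.mem_top _
      rw [MonoidHom.mem_ker, hqg 0 (by norm_num)] at ht1
      exact fLy_ne_one ht1
  let i : ↥(chevG2.group (ZMod 5)) ≃* ↥kk :=
    (MonoidHom.ofInjective ((MonoidHom.ker_eq_bot_iff q).1 hker)).trans (MulEquiv.subgroupCongr hq)
  have hi : ∀ g, g < 4 → i.symm (kv g) = gG g := fun g hg => by
    rw [MulEquiv.symm_apply_eq]
    exact Subtype.ext ((kv_val hg).trans (hqg g hg).symm)
  refine ⟨(toRow.comp (chevG2.group (ZMod 5)).subtype).comp i.symm.toMonoidHom, ?_, ?_, ?_, ?_, ?_⟩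
  · exact (toRow_injective.comp Subtype.val_injective).comp i.symm.injective
  · intro g hg
    show toRow (i.symm (kv g) : GL chevG2.Idx (ZMod 5)) = _
    rw [hi g hg]
    exact gG_row (by omega)
  · rw [← Nat.card_congr i.toEquiv, gTwo_card]
  · exact (MulEquiv.isSimpleGroup_congr i.symm).2 gTwo_simple
  · intro j
    apply i.symm.injective
    have hk : kLet (rel44 j) = true := by
      have h : (relW.take 44).all kLet = true := by decide +kernel
      rw [rel44, List.getD_eq_getElem?_getD]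
      cases hj : (relW.take 44)[j]? with
      | none => rfl
      | some w => exact List.all_eq_true.1 h w (List.mem_of_getElem? hj)
    rw [map_one, ← MulEquiv.coe_toMonoidHom, map_prodV]
    refine Eq.trans ?_ (gG_rels j)
    unfold prodV
    congr 1
    refine List.map_congr_left fun g hg => ?_
    rcases kLet_iff.1 hk g hg with h | h
    · simp only [letV, if_pos (show g % 10 < 5 by omega), MulEquiv.coe_toMonoidHom]
      rw [Nat.mod_eq_of_lt (show g < 10 by omega), hi g h]
    · simp only [letV, if_neg (show ¬g % 10 < 5 by omega), MulEquiv.coe_toMonoidHom]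
      rw [Nat.mod_eq_of_lt (show g < 10 by omega), hi (g - 5) (by omega)]

/-- The representation of degree 14. -/
noncomputable def kRho : ↥kk →* GL (Fin 14) (ZMod 5) := kk_data.choose

theorem kRho_injective : Function.Injective kRho := kk_data.choose_spec.1

theorem kRho_kv {g : ℕ} (hg : g < 4) : kRho (kv g) = gTwoPairs.unit g := kk_data.choose_spec.2.1 g hg

theorem kk_card : Nat.card ↥kk = 5859000000 := kk_data.choose_spec.2.2.1

theorem kk_simple : IsSimpleGroup ↥kk := kk_data.choose_spec.2.2.2.1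

theorem kk_rels (j : ℕ) : prodV kv (rel44 j) = 1 := kk_data.choose_spec.2.2.2.2 j

instance : Finite ↥kk := Nat.finite_of_card_ne_zero (by rw [kk_card]; norm_num)

theorem kRho_word {w : List ℕ} (hw : kLet w = true) : kRho (Kw w) = prodV gTwoPairs.unit w := by
  rw [Kw, map_prodV]
  unfold prodV
  congr 1
  refine List.map_congr_left fun g hg => ?_
  rcases kLet_iff.1 hw g hg with h | h
  · simp only [letV, if_pos (show g % 10 < 5 by omega)]
    rw [Nat.mod_eq_of_lt (show g < 10 by omega), kRho_kv h]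
  · simp only [letV, if_neg (show ¬g % 10 < 5 by omega)]
    rw [Nat.mod_eq_of_lt (show g < 10 by omega), kRho_kv (show g - 5 < 4 by omega)]

theorem lt_ten {w : List ℕ} (hw : kLet w = true) : ∀ g ∈ w, g < 10 := fun g hg => by
  rcases kLet_iff.1 hw g hg with h | h <;> omega

theorem kRho_val {w : List ℕ} (hw : kLet w = true) :
    ((kRho (Kw w) : GL (Fin 14) (ZMod 5)) : Matrix (Fin 14) (Fin 14) (ZMod 5)) =
      SF.wordMat 14 gTwoAll w := by
  rw [kRho_word hw, gTwoPairs.word_val (lt_ten hw)]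

/-- Both words have the same value. -/
noncomputable def kSame (u w : List ℕ) : Bool :=
  kLet u && kLet w && SF.beqL (SF.evalP 14 gTwoAll u) (SF.evalP 14 gTwoAll w)

theorem Kw_eq {u w : List ℕ} (h : kSame u w = true) : Kw u = Kw w := by
  simp only [kSame, Bool.and_eq_true] at h
  obtain ⟨⟨hu, hw⟩, hb⟩ := h
  refine kRho_injective (Units.ext ?_)
  rw [kRho_val hu, kRho_val hw]
  refine SF.sameW_sound gTwoPairs.ok gTwoPairs.ok gTwoPairs.idEq ?_
  simp only [SF.sameW, hb, Bool.and_true, Bool.and_eq_true, List.all_eq_true, Nat.blt_eq,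
    gTwoPairs.len]
  exact ⟨lt_ten hu, lt_ten hw⟩

theorem toMat_inj {n : ℕ} {Y Y' : List (List ℕ)} (hY : SF.Good n Y) (hY' : SF.Good n Y')
    (hl : Y.length = n) (hl' : Y'.length = n) (h : SF.toMat n Y = SF.toMat n Y') : Y = Y' := by
  refine List.ext_getElem (hl.trans hl'.symm) fun i h1 h2 => ?_
  obtain ⟨a1, a2⟩ := hY _ (List.getElem_mem h1)
  obtain ⟨b1, b2⟩ := hY' _ (List.getElem_mem h2)
  refine List.ext_getElem (a1.trans b1.symm) fun j g1 g2 => ?_
  have e := congrFun (congrFun h ⟨i, hl ▸ h1⟩) ⟨j, a1 ▸ g1⟩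
  simp only [SF.toMat, Matrix.of_apply] at e
  rw [List.getD_eq_getElem _ _ h1, List.getD_eq_getElem _ _ g1, List.getD_eq_getElem _ _ h2,
    List.getD_eq_getElem _ _ g2] at e
  have e2 := (ZMod.natCast_eq_natCast_iff' _ _ 5).1 e
  rwa [Nat.mod_eq_of_lt (a2 _ (List.getElem_mem g1)), Nat.mod_eq_of_lt (b2 _ (List.getElem_mem g2))] at e2

theorem eval_ok {w : List ℕ} (hw : kLet w = true) :
    ∀ g ∈ w, SF.okGen 14 (gTwoAll.getD g []) = true := fun g hg => by
  have := lt_ten hw g hg
  rw [List.getD_eq_getElem _ _ (by rw [gTwoPairs.len]; exact this)]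
  exact List.all_eq_true.1 gTwoPairs.ok _ (List.getElem_mem _)

theorem evalP_eq_of_Kw {u w : List ℕ} (hu : kLet u = true) (hw : kLet w = true) (h : Kw u = Kw w) :
    SF.evalP 14 gTwoAll u = SF.evalP 14 gTwoAll w := by
  obtain ⟨e1, e2, e3, e4⟩ := SF.eval_spec gTwoAll gTwoPairs.idEq u (eval_ok hu)
  obtain ⟨d1, d2, d3, d4⟩ := SF.eval_spec gTwoAll gTwoPairs.idEq w (eval_ok hw)
  have hm : SF.wordMat 14 gTwoAll u = SF.wordMat 14 gTwoAll w := by
    rw [← kRho_val hu, ← kRho_val hw, h]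
  rw [e1, d1, toMat_inj e2 d2 e3 d3 (e4.trans (hm.trans d4.symm))]

/-- Words with different values. -/
noncomputable def kDiff (u w : List ℕ) : Bool :=
  kLet u && kLet w && !SF.beqL (SF.evalP 14 gTwoAll u) (SF.evalP 14 gTwoAll w)

theorem beqL_refl : ∀ l : List ℕ, SF.beqL l l = true
  | [] => rfl
  | a :: l => by simp [SF.beqL, beqL_refl l]

theorem Kw_ne {u w : List ℕ} (h : kDiff u w = true) : Kw u ≠ Kw w := by
  intro e
  simp only [kDiff, Bool.and_eq_true, Bool.not_eq_true'] at h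
  obtain ⟨⟨hu, hw⟩, hb⟩ := h
  rw [evalP_eq_of_Kw hu hw e, beqL_refl] at hb
  exact absurd hb (by decide)

theorem Kw_append (u w : List ℕ) : Kw (u ++ w) = Kw u * Kw w := prodV_append kv u w

theorem Kw_inv (w : List ℕ) : Kw (invW w) = (Kw w)⁻¹ := prodV_invW kv w

theorem Kw_conj (u w : List ℕ) : Kw (u ++ w ++ invW u) = Kw u * Kw w * (Kw u)⁻¹ := by
  rw [Kw_append, Kw_append, Kw_inv]

theorem kk_closure : Subgroup.closure (Set.range fun g : Fin 4 => kv g.val) = ⊤ := by
  apply Subgroup.map_injective kk.subtype_injective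
  rw [MonoidHom.map_closure, ← MonoidHom.range_eq_map, Subgroup.range_subtype]
  show _ = Subgroup.closure (fLy '' {g | g < 4})
  congr 1
  ext y
  constructor
  · rintro ⟨_, ⟨g, rfl⟩, rfl⟩
    exact ⟨g, g.isLt, (kv_val g.isLt).symm⟩
  · rintro ⟨g, hg, rfl⟩
    exact ⟨_, ⟨⟨g, hg⟩, rfl⟩, kv_val hg⟩

end CfsgLib.LyThree
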