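import Cfsg.Agent.Lib.LyThree.OrbCheck
import Cfsg.Agent.Lib.LyThree.OrbFourData

/-!
# The checks of a suborbit
-/

set_option autoImplicit false
set_option maxRecDepth 200000

namespace CfsgLib.LyThree

theorem orbFour_chain : orbFour.chainOk = true := by decide +kernel

theorem orbFour_items : orbFour.itemsOk = true := by decide +kernel

theorem orbFour_syl : orbFour.sylOk = true := by decide +kernel

end CfsgLib.LyThree
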