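import Cfsg.Agent.Lib.LyThree.OrbCheck
import Cfsg.Agent.Lib.LyThree.OrbThreeData

/-!
# The checks of a suborbit
-/

set_option autoImplicit false
set_option maxRecDepth 200000

namespace CfsgLib.LyThree

theorem orbThree_chain : orbThree.chainOk = true := by decide +kernel

theorem orbThree_items : orbThree.itemsOk = true := by decide +kernel

theorem orbThree_syl : orbThree.sylOk = true := by decide +kernel

end CfsgLib.LyThree
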