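import Cfsg.Agent.Lib.LyThree.OrbCheck
import Cfsg.Agent.Lib.LyThree.OrbTwoData

/-!
# The checks of a suborbit
-/

set_option autoImplicit false
set_option maxRecDepth 200000

namespace CfsgLib.LyThree

theorem orbTwo_chain : orbTwo.chainOk = true := by decide +kernel

theorem orbTwo_items : orbTwo.itemsOk = true := by decide +kernel

theorem orbTwo_syl : orbTwo.sylOk = true := by decide +kernel

end CfsgLib.LyThree
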