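import Cfsg.Agent.Lib.LyThree.Simple
import Cfsg.Agent.Lib.LyThree.Fusion
import Cfsg.Agent.Lib.LyThree.Assembly
import Cfsg.Agent.Lib.LyThree.OrbOneCheck
import Cfsg.Agent.Lib.LyThree.OrbTwoCheck
import Cfsg.Agent.Lib.LyThree.OrbThreeCheck
import Cfsg.Agent.Lib.LyThree.OrbFourCheck
import Cfsg.Agent.Lib.LyIndex.Setting

/-!
# The centraliser of an element of order three in the presented Lyons group

From the facts on the double cosets of `⟨a, b, c, d⟩`: the five vertices lie in different orbits and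
their stabilisers have the orders `5859000000, 300000, 1008, 2880, 6048`.
-/

set_option autoImplicit false
set_option maxRecDepth 200000

namespace CfsgLib.LyThree

open CfsgLib.LyGTwo CfsgLib.LyIndex MulAction Subgroup

local notation "Ly" => Cfsg.Spor.Ly

/-- The vertex `i` as a coset. -/
noncomputable def vt (i : ℕ) : Ly ⧸ hLy := vert lyCtx i

/-- A representative of a vertex. -/
noncomputable def vrep (i : ℕ) : Ly := (vt i).out

theorem vrep_mk (i : ℕ) : ((vrep i : Ly) : Ly ⧸ hLy) = vt i := Quotient.out_eq' _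

/-- The stabiliser in `kk` of a vertex. -/
noncomputable def vStab (i : ℕ) : Subgroup ↥kk := (stabilizer Ly (vt i)).comap kk.subtype

theorem hLy_kk : hLy = kk := hLy_eq

theorem mem_vStab {i : ℕ} {y : ↥kk} :
    y ∈ vStab i ↔ (vrep i)⁻¹ * (y : Ly) * vrep i ∈ hLy := by
  rw [vStab, mem_comap, mem_stabilizer_iff, ← vrep_mk, coe_subtype]
  exact mem_fixSet

theorem toK {y : Ly} (h : y ∈ hLy) : y ∈ kk := by rwa [← hLy_kk]

theorem ofK {y : Ly} (h : y ∈ kk) : y ∈ hLy := by rwa [hLy_kk]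

theorem kk_fix (y : ↥kk) : (y : Ly) • vt 0 = vt 0 := by
  show (y : Ly) • (((1 : Ly) : Ly ⧸ hLy)) = ((1 : Ly) : Ly ⧸ hLy)
  rw [MulAction.Quotient.smul_coe, smul_eq_mul, mul_one, QuotientGroup.eq, mul_one, inv_mem_iff, hLy_kk]
  exact y.2

theorem vStab_zero : vStab 0 = ⊤ := by
  refine eq_top_iff.2 fun y _ => ?_
  rw [vStab, mem_comap, mem_stabilizer_iff]
  exact kk_fix y

theorem W_eq_Kw {g : List ℕ} (hg : kLet g = true) : lyCtx.W g = ((Kw g : ↥kk) : Ly) := by
  show prodV fLy g = kk.subtype (Kw g)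
  rw [Kw, map_prodV]
  unfold prodV
  congr 1
  refine List.map_congr_left fun x hx => ?_
  rcases kLet_iff.1 hg x hx with h | h
  · simp only [letV, if_pos (show x % 10 < 5 by omega)]
    rw [Nat.mod_eq_of_lt (show x < 10 by omega)]
    exact (kv_val h).symm
  · simp only [letV, if_neg (show ¬x % 10 < 5 by omega)]
    rw [Nat.mod_eq_of_lt (show x < 10 by omega)]
    exact congrArg Inv.inv (kv_val (show x - 5 < 4 by omega)).symm

theorem gens_mem {j : ℕ} (hj : j < 5) {G : List (List ℕ)} (h : gensOf j = G)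
    (hG : G.all kLet = true) : ∀ g ∈ G, Kw g ∈ vStab j := by
  intro g hg
  obtain ⟨-, e, he⟩ := gen_fix lyCtx hj (h.symm ▸ hg)
  rw [lyCtx_lab, one_smul, W_eq_Kw (List.all_eq_true.1 hG g hg)] at he
  rw [vStab, mem_comap, mem_stabilizer_iff]
  exact he

theorem gens_eq : gensOf 1 = orbOne.gens ∧ gensOf 2 = orbTwo.gens ∧ gensOf 3 = orbThree.gens ∧
    gensOf 4 = orbFour.gens := by
  refine ⟨?_, ?_, ?_, ?_⟩ <;> decide +kernel

/-- The stabiliser orders. -/
def vOrd : Fin 5 → ℕ := ![5859000000, 300000, 1008, 2880, 6048]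

/-- The numbers of conjugates in the stabilisers. -/
def vNum : Fin 5 → ℕ := ![15500, 200, 2, 20, 56]

/-- The conjugating words. -/
def vConj : Fin 5 → List ℕ :=
  ![[], orbOne.conjs.getD 0 [], orbTwo.conjs.getD 0 [], orbThree.conjs.getD 0 [], orbFour.conjs.getD 0 []]

/-- The conjugate in a stabiliser. -/
noncomputable def vSeed (i : Fin 5) : ↥kk := Kw (vConj i) * xk * (Kw (vConj i))⁻¹

/-- The facts on the double cosets. -/
structure CosetFacts : Prop where
  ord : ∀ i : Fin 5, Nat.card ↥(vStab i.val) = vOrd i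
  dist : ∀ i j : Fin 5, (∃ u ∈ hLy, u • vt i.val = vt j.val) → i = j

theorem seed_of_orb {D : OrbData} {j : ℕ} (hj : j < 5) (hg : gensOf j = D.gens) (hc : D.chainOk = true)
    (hi : D.itemsOk = true) (hs : D.sylOk = true) {n : ℕ} (hA : Nat.card ↥(vStab j) = n)
    (hn : (D.rowsOne.length + 1) * (D.rowsTwo.length + 1) = n)
    (hsyl : D.pPaths.length ∣ n ∧ ¬3 ∣ n / D.pPaths.length) :
    Kw (D.conjs.getD 0 []) * xk * (Kw (D.conjs.getD 0 []))⁻¹ ∈ vStab j ∧
    (∀ y ∈ vStab j, IsConj xk y →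
      ∃ t ∈ vStab j, t * (Kw (D.conjs.getD 0 []) * xk * (Kw (D.conjs.getD 0 []))⁻¹) * t⁻¹ = y) ∧
    Nat.card ↥(vStab j ⊓
      centralizer ({Kw (D.conjs.getD 0 []) * xk * (Kw (D.conjs.getD 0 []))⁻¹} : Set ↥kk)) *
        D.conjs.length = n := by
  have hG : D.gens.all kLet = true := by
    simp only [OrbData.chainOk, Bool.and_eq_true] at hc
    exact hc.1.1.1.1.1.1
  have := OrbData.orbit_spec (A := vStab j) hc hi hs (gens_mem hj hg hG) hA hn hsyl
  rwa [OrbData.Kw_item] at this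

theorem seeds (F : CosetFacts) (i : Fin 5) :
    vSeed i ∈ vStab i.val ∧
    (∀ y ∈ vStab i.val, IsConj xk y → ∃ t ∈ vStab i.val, t * vSeed i * t⁻¹ = y) ∧
    Nat.card ↥(vStab i.val ⊓ centralizer ({vSeed i} : Set ↥kk)) * vNum i = vOrd i := by
  obtain ⟨g1, g2, g3, g4⟩ := gens_eq
  match i with
  | 0 =>
    have hs0 : vSeed 0 = xk := by simp [vSeed, vConj, Kw]
    rw [hs0]
    show xk ∈ vStab 0 ∧ (∀ y ∈ vStab 0, IsConj xk y → ∃ t ∈ vStab 0, t * xk * t⁻¹ = y) ∧
      Nat.card ↥(vStab 0 ⊓ centralizer ({xk} : Set ↥kk)) * 15500 = 5859000000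
    rw [vStab_zero, top_inf_eq]
    refine ⟨mem_top _, fun y _ hy => ?_, by rw [show centralizer ({xk} : Set ↥kk) = cx from rfl, cx_card]⟩
    obtain ⟨t, ht⟩ := isConj_iff.1 hy
    exact ⟨t, mem_top _, ht⟩
  | 1 =>
    have h := seed_of_orb (j := 1) (by omega) g1 orbOne_chain orbOne_items orbOne_syl
      (n := 300000) (F.ord 1) (by decide +kernel) (by decide +kernel)
    rwa [show orbOne.conjs.length = 200 by decide +kernel] at h
  | 2 =>
    have h := seed_of_orb (j := 2) (by omega) g2 orbTwo_chain orbTwo_items orbTwo_syl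
      (n := 1008) (F.ord 2) (by decide +kernel) (by decide +kernel)
    rwa [show orbTwo.conjs.length = 2 by decide +kernel] at h
  | 3 =>
    have h := seed_of_orb (j := 3) (by omega) g3 orbThree_chain orbThree_items orbThree_syl
      (n := 2880) (F.ord 3) (by decide +kernel) (by decide +kernel)
    rwa [show orbThree.conjs.length = 20 by decide +kernel] at h
  | 4 =>
    have h := seed_of_orb (j := 4) (by omega) g4 orbFour_chain orbFour_items orbFour_syl
      (n := 6048) (F.ord 4) (by decide +kernel) (by decide +kernel)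
    rwa [show orbFour.conjs.length = 56 by decide +kernel] at h

theorem seed_back (i : Fin 5) :
    ((Kw (vConj i))⁻¹)⁻¹ * xk * (Kw (vConj i))⁻¹ = vSeed i := by rw [inv_inv]; rfl

/-- The data of the fixed cosets. -/
noncomputable def fixData (F : CosetFacts) : FixData hLy (xk : Ly) 5 where
  g i := vrep i.val
  k i := (((Kw (vConj i))⁻¹ : ↥kk) : Ly)
  x_mem := ofK xk.2
  k_mem i := ofK ((Kw (vConj i))⁻¹).2
  cover a := by
    obtain ⟨j, hj, e, m, he⟩ := inU_all lyCtx (fun S h _ => fLy_top S h) ((a : Ly) : Ly ⧸ hLy)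
    rw [lyCtx_lab, one_smul, show vert lyCtx j = vt j from rfl, ← vrep_mk, MulAction.Quotient.smul_coe,
      smul_eq_mul, eq_comm, QuotientGroup.eq] at he
    exact ⟨⟨j, hj⟩, lyCtx.psi m, ⟨m, rfl⟩, _, he, (mul_inv_cancel_left _ _).symm⟩
  distinct i j u hu v hv h := by
    refine F.dist i j ⟨u, hu, ?_⟩
    rw [← vrep_mk, ← vrep_mk, MulAction.Quotient.smul_coe, smul_eq_mul, QuotientGroup.eq, ← h,
      inv_mul_cancel_left]
    exact hv
  seed i := by
    have h := mem_vStab.1 (seeds F i).1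
    rw [← seed_back] at h
    simpa using h
  fuse y hy hc := by
    obtain ⟨t, ht⟩ := fuse (y := ⟨y, toK hy⟩) hc
    exact ⟨(t : Ly), ofK t.2, congrArg Subtype.val ht⟩
  complete i y hy hgy hc := by
    set y' : ↥kk := ⟨y, toK hy⟩
    obtain ⟨t0, ht0⟩ := LyThree.fuse (y := y') hc
    obtain ⟨t, htA, ht⟩ := (seeds F i).2.1 y' (mem_vStab.2 hgy) (isConj_iff.2 ⟨t0, ht0⟩)
    refine ⟨(t : Ly), ofK t.2, mem_vStab.1 htA, ?_⟩
    rw [← seed_back] at ht
    simpa using congrArg Subtype.val ht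

theorem xk_orderOf : orderOf (xk : Ly) = 3 := by
  rw [Subgroup.orderOf_coe]
  haveI : Fact (Nat.Prime 3) := ⟨Nat.prime_three⟩
  exact orderOf_eq_prime xk_cube xk_ne_one

/-- The intersection with the centraliser, as a subgroup of `kk`. -/
noncomputable def capEquiv : ↥(hLy ⊓ centralizer ({(xk : Ly)} : Set Ly)) ≃ ↥cx where
  toFun u := ⟨⟨u.1, toK u.2.1⟩, mem_centralizer_singleton_iff.2
    (Subtype.ext (mem_centralizer_singleton_iff.1 u.2.2))⟩
  invFun u := ⟨(u.1 : Ly), ofK u.1.2,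
    mem_centralizer_singleton_iff.2 (congrArg Subtype.val (mem_centralizer_singleton_iff.1 u.2))⟩
  left_inv _ := rfl
  right_inv _ := rfl

theorem cap_card : Nat.card ↥(hLy ⊓ centralizer ({(xk : Ly)} : Set Ly)) = 378000 := by
  rw [Nat.card_congr capEquiv, cx_card]

theorem stab_piece (F : CosetFacts) (i : Fin 5) :
    Nat.card ↥(stabilizer ↥(hLy ⊓ centralizer ({(xk : Ly)} : Set Ly)) ((fixData F).pt i)) =
      Nat.card ↥(vStab i.val ⊓ centralizer ({vSeed i} : Set ↥kk)) := by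
  set k : ↥kk := (Kw (vConj i))⁻¹ with hk
  have hfix : ∀ y : ↥kk, (y : Ly) • (fixData F).pt i = (fixData F).pt i ↔ k⁻¹ * y * k ∈ vStab i.val := by
    intro y
    rw [mem_vStab]
    show (y : Ly) • (((k : Ly) * vrep i.val : Ly) : Ly ⧸ hLy) = _ ↔ _
    refine Iff.trans mem_fixSet ?_
    simp [mul_assoc]
  have hcen : ∀ y : ↥kk, (y : Ly) * (xk : Ly) = xk * y ↔
      k⁻¹ * y * k ∈ centralizer ({vSeed i} : Set ↥kk) := by
    intro y
    rw [mem_centralizer_singleton_iff, ← seed_back i, ← hk, ← Subgroup.coe_mul, ← Subgroup.coe_mul,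
      Subtype.coe_inj]
    constructor
    · intro e
      calc k⁻¹ * y * k * (k⁻¹ * xk * k) = k⁻¹ * (y * xk) * k := by group
        _ = k⁻¹ * (xk * y) * k := by rw [e]
        _ = k⁻¹ * xk * k * (k⁻¹ * y * k) := by group
    · intro e
      calc y * xk = k * (k⁻¹ * y * k * (k⁻¹ * xk * k)) * k⁻¹ := by group
        _ = k * (k⁻¹ * xk * k * (k⁻¹ * y * k)) * k⁻¹ := by rw [e]
        _ = xk * y := by group
  have back : ∀ w : ↥kk, k⁻¹ * (k * w * k⁻¹) * k = w := fun w => by group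
  refine Nat.card_congr
    { toFun := fun u => ⟨k⁻¹ * ⟨u.1.1, toK u.1.2.1⟩ * k,
        (hfix _).1 ((mem_stabilizer_iff.1 u.2 :) : u.1.1 • _ = _),
        (hcen _).1 (mem_centralizer_singleton_iff.1 u.1.2.2)⟩
      invFun := fun w => ⟨⟨((k * w.1 * k⁻¹ : ↥kk) : Ly), ofK (k * w.1 * k⁻¹).2,
        mem_centralizer_singleton_iff.2 ((hcen _).2 (by rw [back]; exact w.2.2))⟩,
        mem_stabilizer_iff.2 ((hfix _).2 (by rw [back]; exact w.2.1))⟩
      left_inv := fun u => Subtype.ext (Subtype.ext (by simp [mul_assoc]))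
      right_inv := fun w => Subtype.ext (back w.1) }

theorem main [Finite Ly] (F : CosetFacts) :
    orderOf (xk : Ly) = 3 ∧ Nat.card (center ↥(centralizer ({(xk : Ly)} : Set Ly))) = 3 ∧
      Cfsg.IsMcL (↥(centralizer ({(xk : Ly)} : Set Ly)) ⧸ center ↥(centralizer ({(xk : Ly)} : Set Ly))) := by
  refine ⟨xk_orderOf, centraliser_of_fixData (fixData F) xk_orderOf cap_card ?_ ?_ ?_⟩
  · intro i
    rw [stab_piece F i]
    have h := (seeds F i).2.2
    have key : ∀ c, c * vNum i = vOrd i → c * subLen i = 378000 := by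
      intro c hc
      match i with
      | 0 => simp only [vNum, vOrd, subLen, Matrix.cons_val] at hc ⊢; omega
      | 1 => simp only [vNum, vOrd, subLen, Matrix.cons_val] at hc ⊢; omega
      | 2 => simp only [vNum, vOrd, subLen, Matrix.cons_val] at hc ⊢; omega
      | 3 => simp only [vNum, vOrd, subLen, Matrix.cons_val] at hc ⊢; omega
      | 4 => simp only [vNum, vOrd, subLen, Matrix.cons_val] at hc ⊢; omega
    exact key _ h
  · show (((((Kw (vConj 0))⁻¹ : ↥kk) : Ly) * vrep 0 : Ly) : Ly ⧸ hLy) = _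
    rw [show Kw (vConj 0) = (1 : ↥kk) from rfl, inv_one, OneMemClass.coe_one, one_mul, vrep_mk]
    rfl
  · intro M hZ hM hn
    have hsub : M ≤ kk := fun m hm => toK (hM hm).1
    rcases cx_simple (M.comap kk.subtype) (zpowers_le.2 (hZ (mem_zpowers _)))
      (fun m hm => mem_centralizer_singleton_iff.2
        (Subtype.ext (mem_centralizer_singleton_iff.1 (hM hm).2)))
      (fun u hu m hm => hn u ⟨ofK u.2,
        mem_centralizer_singleton_iff.2 (congrArg Subtype.val (mem_centralizer_singleton_iff.1 hu))⟩ m hm)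
      with e | e
    · refine .inl (le_antisymm (fun m hm => ?_) hZ)
      have h : (⟨m, hsub hm⟩ : ↥kk) ∈ zpowers xk := e ▸ (show (⟨m, hsub hm⟩ : ↥kk) ∈ M.comap kk.subtype from hm)
      obtain ⟨n, hn'⟩ := mem_zpowers_iff.1 h
      exact mem_zpowers_iff.2 ⟨n, by rw [← SubgroupClass.coe_zpow, hn']⟩
    · refine .inr (le_antisymm hM fun u hu => ?_)
      have h : (capEquiv ⟨u, hu⟩).1 ∈ M.comap kk.subtype := by
        rw [e]
        exact (capEquiv ⟨u, hu⟩).2
      exact h

end CfsgLib.LyThree
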