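import Mathlib.Data.List.Basic

/-!
# The type of the suborbit data
-/

set_option autoImplicit false

namespace CfsgLib.LyThree

/-- Data of one suborbit: generators of the point stabiliser, the conjugates of the element of order
three in it, a two-point chain, and a Sylow 3-subgroup. -/
structure OrbData where
  j : ℕ
  gens : List (List ℕ)
  conjs : List (List ℕ)
  onext : List (List ℕ)
  seed : List ℕ
  pOne : ℕ
  rowsOne : List ℕ
  pTwo : ℕ
  gensTwo : List (List ℕ)
  rowsTwo : List ℕ
  pGens : List (List ℕ)
  pPaths : List (List ℕ)
  pNext : List (List ℕ)
  pTag : List ℕ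

end CfsgLib.LyThree
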