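import Cfsg.Agent.Lib.LyThree.Cent
import Cfsg.Agent.Lib.LyThree.OrbType
import Mathlib.GroupTheory.PGroup

/-!
# Soundness of the suborbit certificates
-/

set_option autoImplicit false
set_option maxRecDepth 100000

namespace CfsgLib.LyThree

open CfsgLib.LyGTwo MulAction Subgroup

/-- An element of exponent a prime lies in a conjugate of a subgroup of coprime index. -/
theorem conj_mem_of_index {A : Type*} [Group A] [Finite A] (P : Subgroup A) (hP : ¬3 ∣ P.index) {y : A}
    (hy : y ^ 3 = 1) : ∃ t : A, t⁻¹ * y * t ∈ P := by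
  haveI : Fact (Nat.Prime 3) := ⟨Nat.prime_three⟩
  have hp : IsPGroup 3 ↥(zpowers y) := by
    rintro ⟨g, hg⟩
    refine ⟨1, Subtype.ext ?_⟩
    obtain ⟨k, rfl⟩ := mem_zpowers_iff.1 hg
    rw [pow_one, SubmonoidClass.coe_pow, OneMemClass.coe_one, ← zpow_natCast, ← zpow_mul, mul_comm,
      zpow_mul, zpow_natCast, hy, one_zpow]
  obtain ⟨p, hpf⟩ := hp.nonempty_fixed_point_of_prime_not_dvd_card (A ⧸ P)
    (by rwa [← Subgroup.index_eq_card])
  induction p using QuotientGroup.induction_on with
  | H t =>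
    refine ⟨t, ?_⟩
    have h : y • ((t : A) : A ⧸ P) = (t : A ⧸ P) := hpf ⟨y, mem_zpowers y⟩
    rw [MulAction.Quotient.smul_coe, smul_eq_mul, eq_comm, QuotientGroup.eq] at h
    rwa [mul_assoc]

/-- Generators followed by their inverses. -/
def extG (G : List (List ℕ)) : List (List ℕ) := G ++ G.map invW

/-- A word in generators and inverses. -/
def gWord (G : List (List ℕ)) (l : List ℕ) : List ℕ := l.flatMap fun k => (extG G).getD k []

theorem gWord_mem {G : List (List ℕ)} {A : Subgroup ↥kk} (hG : ∀ g ∈ G, Kw g ∈ A) (l : List ℕ) :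
    Kw (gWord G l) ∈ A := by
  induction l with
  | nil => exact one_mem _
  | cons k l ih =>
    rw [gWord, List.flatMap_cons, Kw_append]
    refine mul_mem ?_ ih
    rcases Nat.lt_or_ge k (extG G).length with hk | hk
    · rw [List.getD_eq_getElem _ _ hk]
      rcases List.mem_append.1 (List.getElem_mem hk) with h | h
      · exact hG _ h
      · obtain ⟨g, hg, e⟩ := List.mem_map.1 h
        rw [← e, Kw_inv]
        exact inv_mem (hG g hg)
    · rw [List.getD_eq_default _ _ hk]
      exact one_mem _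

namespace OrbData

variable (D : OrbData)

/-- The word of a conjugate. -/
def item (i : ℕ) : List ℕ := D.conjs.getD i [] ++ xW ++ invW (D.conjs.getD i [])

/-- The words of the second level generators. -/
def twoWords : List (List ℕ) := D.gensTwo.map (gWord D.gens)

/-- The generators of the Sylow subgroup. -/
def sylW : List (List ℕ) := D.pGens.map (gWord D.gens)

/-- The elements of the Sylow subgroup. -/
def sylE : List (List ℕ) := D.pPaths.map fun l => l.flatMap fun k => D.sylW.getD k []

/-- The chain of orbits. -/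
def chainOk : Bool :=
  D.gens.all kLet && D.twoWords.all kLet && Nat.blt D.pOne 3906 && Nat.blt D.pTwo 3906 &&
    (reach D.gens (decRows D.rowsOne) (2 ^ D.pOne)).isSome &&
    (D.twoWords.all fun g => Nat.beq (pwalk g D.pOne) D.pOne) &&
    (reach D.twoWords (decRows D.rowsTwo) (2 ^ D.pTwo)).isSome

/-- The conjugates are closed and distinct and reached from the seed. -/
noncomputable def itemsOk : Bool :=
  Nat.blt 0 D.conjs.length && ((List.range D.conjs.length).all fun i =>
    kLet (D.conjs.getD i []) && kLet (D.item i)) &&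
  kSame (gWord D.gens D.seed) (D.item 0) &&
  ((List.range D.conjs.length).all fun i => (List.range D.gens.length).all fun g =>
    Nat.blt ((D.onext.getD i []).getD g 0) D.conjs.length &&
      kSame (D.gens.getD g [] ++ D.item i)
        (D.item ((D.onext.getD i []).getD g 0) ++ D.gens.getD g [])) &&
  ((List.range D.conjs.length).all fun i => Nat.beq i 0 || (List.range i).any fun p =>
    (List.range D.gens.length).any fun g => Nat.beq ((D.onext.getD p []).getD g 0) i) &&
  allDiff (valsOf ((List.range D.conjs.length).map D.item))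

/-- The Sylow subgroup. -/
noncomputable def sylOk : Bool :=
  D.sylE.all kLet && allDiff (valsOf D.sylE) && decide (D.pPaths.head? = some []) &&
  leftClosed D.sylW D.sylE D.pNext &&
  (List.range D.pPaths.length).all fun t =>
    if Nat.beq (D.pTag.getD t 0) 0 then
      (D.pPaths.getD t [0]).isEmpty || !Nat.beq (trW 14 gTwoAll (D.sylE.getD t [])) (trW 14 gTwoAll xW)
    else Nat.ble (D.pTag.getD t 0) D.conjs.length &&
      kSame (D.sylE.getD t []) (D.item (D.pTag.getD t 0 - 1))

variable {D} {A : Subgroup ↥kk}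

theorem item_conj (i : ℕ) :
    D.item i = D.conjs.getD i [] ++ xW ++ invW (D.conjs.getD i []) := rfl

theorem Kw_item (i : ℕ) : Kw (D.item i) = Kw (D.conjs.getD i []) * xk * (Kw (D.conjs.getD i []))⁻¹ :=
  Kw_conj _ _

theorem closure_eq (hc : D.chainOk = true) (hG : ∀ g ∈ D.gens, Kw g ∈ A) {n : ℕ}
    (hA : Nat.card ↥A = n) (hn : (D.rowsOne.length + 1) * (D.rowsTwo.length + 1) = n) :
    closure (Kw '' {w | w ∈ D.gens}) = A := by
  simp only [chainOk, Bool.and_eq_true, Nat.blt_eq] at hc
  obtain ⟨⟨⟨⟨⟨⟨hg, hg2⟩, hp1⟩, hp2⟩, hr1⟩, hfix⟩, hr2⟩ := hc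
  set Y := closure (Kw '' {w | w ∈ D.gens})
  have hY : Y ≤ A := by
    rw [closure_le]
    rintro _ ⟨w, hw, rfl⟩
    exact hG w hw
  have hYg : ∀ g ∈ D.gens, Kw g ∈ Y := fun g hg => subset_closure ⟨g, hg, rfl⟩
  obtain ⟨S, hS, hSm⟩ := reach_orbit hg Y hYg (p := ⟨D.pOne, hp1⟩) (l := decRows D.rowsOne) hr1
  obtain ⟨T, hT, hTm⟩ := reach_orbit hg2 (Y ⊓ stabilizer ↥kk (⟨D.pOne, hp1⟩ : Fin 3906))
    (fun w hw => ⟨by obtain ⟨l, -, rfl⟩ := List.mem_map.1 hw; exact gWord_mem hYg l,
      mem_stab_word (List.all_eq_true.1 hg2 w hw) (Nat.eq_of_beq_eq_true (List.all_eq_true.1 hfix w hw))⟩)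
    (p := ⟨D.pTwo, hp2⟩) (l := decRows D.rowsTwo) hr2
  rw [decRows, List.length_map] at hS hT
  refine eq_of_le_of_card_ge hY ?_
  rw [hA, ← hn, ← hS, ← hT, ← card_orbit_mul Y (⟨D.pOne, hp1⟩ : Fin 3906)]
  refine Nat.mul_le_mul ?_ ?_
  · rw [← Set.ncard_coe_finset]
    exact Set.ncard_le_ncard (fun q hq => hSm q hq) (Set.toFinite _)
  · rw [← card_orbit_mul (Y ⊓ stabilizer ↥kk (⟨D.pOne, hp1⟩ : Fin 3906)) (⟨D.pTwo, hp2⟩ : Fin 3906),
      ← Set.ncard_coe_finset]
    refine le_trans ?_ (Nat.le_mul_of_pos_right _ Nat.card_pos)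
    exact Set.ncard_le_ncard (fun q hq => hTm q hq) (Set.toFinite _)

theorem items_spec (hi : D.itemsOk = true) (hY : closure (Kw '' {w | w ∈ D.gens}) = A) :
    Kw (D.item 0) ∈ A ∧
    (∀ i < D.conjs.length, ∃ h ∈ A, h * Kw (D.item 0) * h⁻¹ = Kw (D.item i)) ∧
    (∀ h ∈ A, ∀ i < D.conjs.length, ∃ k < D.conjs.length, h * Kw (D.item i) * h⁻¹ = Kw (D.item k)) ∧
    ((List.range D.conjs.length).map fun i => Kw (D.item i)).Nodup ∧ 0 < D.conjs.length := by
  simp only [itemsOk, Bool.and_eq_true, Nat.blt_eq, List.all_eq_true, List.mem_range] at hi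
  obtain ⟨⟨⟨⟨⟨h0, hlet⟩, hseed⟩, hstep⟩, hpar⟩, hdiff⟩ := hi
  have hg : ∀ g ∈ D.gens, Kw g ∈ A := fun g hg => hY ▸ subset_closure ⟨g, hg, rfl⟩
  have move : ∀ i < D.conjs.length, ∀ g < D.gens.length,
      (D.onext.getD i []).getD g 0 < D.conjs.length ∧
      Kw (D.gens.getD g []) * Kw (D.item i) * (Kw (D.gens.getD g []))⁻¹ =
        Kw (D.item ((D.onext.getD i []).getD g 0)) := fun i hi g hg => by
    obtain ⟨h1, h2⟩ := hstep i hi g hg
    refine ⟨h1, ?_⟩
    have e := Kw_eq h2
    rw [Kw_append, Kw_append] at e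
    rw [e, mul_inv_cancel_right]
  refine ⟨?_, ?_, ?_, ?_, h0⟩
  · rw [← Kw_eq hseed]; exact gWord_mem hg _
  · intro i
    induction i using Nat.strong_induction_on with
    | _ i ih =>
      intro hi
      rcases Nat.eq_zero_or_pos i with rfl | hpos
      · exact ⟨1, one_mem _, by simp⟩
      · have := hpar i hi
        simp only [Bool.or_eq_true, Nat.beq_eq, List.any_eq_true, List.mem_range] at this
        obtain ⟨p, hp, g, hgl, e⟩ := this.resolve_left (by omega)
        obtain ⟨h, hh, eh⟩ := ih p hp (by omega)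
        obtain ⟨-, em⟩ := move p (by omega) g hgl
        refine ⟨Kw (D.gens.getD g []) * h, mul_mem (hg _ ?_) hh, ?_⟩
        · rw [List.getD_eq_getElem _ _ hgl]; exact List.getElem_mem _
        · rw [← e, ← em, ← eh]; group
  · intro h hh
    have hh' : h ∈ Submonoid.closure (Kw '' {w | w ∈ D.gens}) := by
      rw [← hY, ← Subgroup.mem_toSubmonoid, Subgroup.closure_toSubmonoid_of_finite] at hh
      exact hh
    clear hh
    induction hh' using Submonoid.closure_induction with
    | mem y hy =>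
      obtain ⟨w, hw, rfl⟩ := hy
      intro i hi
      obtain ⟨g, hgl, rfl⟩ := List.getElem_of_mem (show w ∈ D.gens from hw)
      rw [← List.getD_eq_getElem _ [] hgl]
      exact ⟨_, move i hi g hgl⟩
    | one => exact fun i hi => ⟨i, hi, by simp⟩
    | mul a b _ _ iha ihb =>
      intro i hi
      obtain ⟨k, hk, e⟩ := ihb i hi
      obtain ⟨k', hk', e'⟩ := iha k hk
      exact ⟨k', hk', by rw [← e', ← e]; group⟩
  · have := Kw_nodup (ws := (List.range D.conjs.length).map D.item)
      (List.all_eq_true.2 fun w hw => by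
        obtain ⟨i, hi, rfl⟩ := List.mem_map.1 hw
        exact (hlet i (List.mem_range.1 hi)).2) hdiff
    rwa [List.map_map] at this

theorem orbit_spec (hc : D.chainOk = true) (hi : D.itemsOk = true) (hs : D.sylOk = true)
    (hG : ∀ g ∈ D.gens, Kw g ∈ A) {n : ℕ} (hA : Nat.card ↥A = n)
    (hn : (D.rowsOne.length + 1) * (D.rowsTwo.length + 1) = n)
    (hsyl : D.pPaths.length ∣ n ∧ ¬3 ∣ n / D.pPaths.length) :
    Kw (D.item 0) ∈ A ∧
    (∀ y ∈ A, IsConj xk y → ∃ t ∈ A, t * Kw (D.item 0) * t⁻¹ = y) ∧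
    Nat.card ↥(A ⊓ centralizer ({Kw (D.item 0)} : Set ↥kk)) * D.conjs.length = n := by
  classical
  have hY := closure_eq hc hG hA hn
  obtain ⟨s0, sreach, sclosed, snodup, spos⟩ := items_spec hi hY
  simp only [sylOk, Bool.and_eq_true, List.all_eq_true, List.mem_range, decide_eq_true_eq] at hs
  obtain ⟨⟨⟨⟨hk, hd⟩, hhead⟩, hlc⟩, htag⟩ := hs
  set P := closure (Kw '' {w | w ∈ D.sylW}) with hPdef
  have hPA : P ≤ A := by
    rw [hPdef, closure_le]
    rintro _ ⟨w, hw, rfl⟩
    obtain ⟨l, -, rfl⟩ := List.mem_map.1 hw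
    exact gWord_mem hG l
  have hnil : [] ∈ D.sylE := List.mem_map.2 ⟨[], List.mem_of_mem_head? hhead, rfl⟩
  have hPcard : Nat.card ↥P = D.pPaths.length := by
    rw [show D.pPaths.length = (D.sylE.map Kw).toFinset.card by
      rw [List.toFinset_card_of_nodup (Kw_nodup (List.all_eq_true.2 hk) hd), List.length_map, sylE,
        List.length_map], ← Set.ncard_coe_finset, ← Nat.card_coe_set_eq]
    refine congrArg (fun s : Set ↥kk => Nat.card ↥s) (Set.ext fun y => ⟨fun hy => ?_, fun hy => ?_⟩)
    · obtain ⟨w, hw, e⟩ := leftClosed_spec hlc hnil hy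
      simpa using ⟨w, hw, e⟩
    · simp only [List.coe_toFinset, Set.mem_setOf_eq, List.mem_map] at hy
      obtain ⟨w, hw, rfl⟩ := hy
      obtain ⟨l, -, rfl⟩ := List.mem_map.1 hw
      clear hw
      induction l with
      | nil => exact one_mem _
      | cons k l ih =>
        rw [List.flatMap_cons, Kw_append]
        refine mul_mem ?_ ih
        rcases Nat.lt_or_ge k D.sylW.length with h | h
        · rw [List.getD_eq_getElem _ _ h]; exact subset_closure ⟨_, List.getElem_mem h, rfl⟩
        · rw [List.getD_eq_default _ _ h]; exact one_mem _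
  have hall : ∀ y ∈ A, IsConj xk y → ∃ i < D.conjs.length, Kw (D.item i) = y := by
    intro y hy hc'
    obtain ⟨c, hc''⟩ := isConj_iff.1 hc'
    have hx3 : xk ^ 3 = 1 := by
      rw [xk, ← Kw_replicate]
      exact Kw_eq (by decide +kernel : kSame (List.replicate 3 xW).flatten [] = true)
    have hy3 : y ^ 3 = 1 := by rw [← hc'', conj_pow, hx3, mul_one, mul_inv_cancel]
    have hy1 : y ≠ 1 := fun h => by
      rw [h, mul_inv_eq_one, mul_eq_left] at hc''
      exact Kw_ne (by decide +kernel : kDiff xW [] = true) hc''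
    have hidx : ¬3 ∣ (P.subgroupOf A).index := by
      have h1 := card_mul_index (P.subgroupOf A)
      rw [Nat.card_congr (subgroupOfEquivOfLe hPA).toEquiv, hPcard, hA] at h1
      have hpos : 0 < D.pPaths.length := List.length_pos_of_mem (List.mem_of_mem_head? hhead)
      rw [show (P.subgroupOf A).index = n / D.pPaths.length by
        rw [← h1, Nat.mul_div_cancel_left _ hpos]]
      exact hsyl.2
    obtain ⟨⟨t, htA⟩, ht⟩ := conj_mem_of_index (P.subgroupOf A) hidx (y := ⟨y, hy⟩) (Subtype.ext hy3)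
    rw [mem_subgroupOf] at ht
    simp only [Subgroup.coe_mul, Subgroup.coe_inv] at ht
    obtain ⟨w, hw, e⟩ := leftClosed_spec hlc hnil ht
    obtain ⟨k, hkl, rfl⟩ := List.getElem_of_mem hw
    have hkl' : k < D.pPaths.length := by simpa [sylE] using hkl
    have h := htag k hkl'
    have hkd : D.sylE.getD k [] = D.sylE[k] := List.getD_eq_getElem _ _ hkl
    split at h
    · exfalso
      simp only [Bool.or_eq_true, Bool.not_eq_true', List.isEmpty_iff] at h
      rcases h with h | h
      · apply hy1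
        have h0 : D.sylE[k] = [] := by
          simp only [sylE, List.getElem_map]
          rw [← List.getD_eq_getElem _ [0] hkl', h]
          rfl
        rw [h0] at e
        calc y = t * (t⁻¹ * y * t) * t⁻¹ := by group
          _ = 1 := by rw [← e, show Kw [] = (1 : ↥kk) from rfl, mul_one, mul_inv_cancel]
      · rw [hkd] at h
        have hconj : IsConj (Kw xW) (Kw D.sylE[k]) := by
          rw [e]
          exact hc'.trans (isConj_iff.2 ⟨t⁻¹, by group⟩)
        rw [← trW_conj cert_comm.2.2.1 (hk _ hw) hconj, Nat.beq_refl] at h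
        exact absurd h (by decide)
    · rename_i htg
      simp only [Bool.and_eq_true, Nat.ble_eq] at h
      have ht0 : 0 < D.pTag.getD k 0 := Nat.pos_of_ne_zero fun h0 => htg (by rw [h0]; rfl)
      rw [hkd] at h
      obtain ⟨i, hi', ei⟩ := sclosed t htA (D.pTag.getD k 0 - 1) (by omega)
      refine ⟨i, hi', ?_⟩
      rw [← ei, ← Kw_eq h.2, e]
      group
  have hset : {y | ∃ h ∈ A, h * Kw (D.item 0) * h⁻¹ = y} =
      ↑(((List.range D.conjs.length).map fun i => Kw (D.item i)).toFinset) := by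
    ext y
    simp only [Set.mem_setOf_eq, List.coe_toFinset, List.mem_map, List.mem_range]
    constructor
    · rintro ⟨h, hh, rfl⟩
      obtain ⟨k, hk, e⟩ := sclosed h hh 0 spos
      exact ⟨k, hk, e.symm⟩
    · rintro ⟨i, hi, rfl⟩
      exact sreach i hi
  refine ⟨s0, fun y hy hc' => ?_, ?_⟩
  · obtain ⟨i, hi', rfl⟩ := hall y hy hc'
    exact sreach i hi'
  · have h1 : {y | ∃ h ∈ A, h * Kw (D.item 0) * h⁻¹ = y}.ncard = D.conjs.length := by
      rw [hset, Set.ncard_coe_finset, List.toFinset_card_of_nodup snodup, List.length_map,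
        List.length_range]
    rw [← hA, ← h1]
    set s := Kw (D.item 0)
    set C := (centralizer ({s} : Set ↥kk)).subgroupOf A
    let f : ↥A ⧸ C → ↥{y | ∃ h ∈ A, h * s * h⁻¹ = y} := fun q =>
      Quotient.liftOn' q (fun a => ⟨(a : ↥kk) * s * (a : ↥kk)⁻¹, a, a.2, rfl⟩) (fun a b hab => by
        rw [QuotientGroup.leftRel_apply, mem_subgroupOf, mem_centralizer_singleton_iff] at hab
        simp only [Subgroup.coe_mul, Subgroup.coe_inv] at hab
        refine Subtype.ext ?_
        calc (a : ↥kk) * s * (a : ↥kk)⁻¹ = a * (s * ((a : ↥kk)⁻¹ * b)) * (b : ↥kk)⁻¹ := by group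
          _ = a * (((a : ↥kk)⁻¹ * b) * s) * (b : ↥kk)⁻¹ := by rw [hab]
          _ = (b : ↥kk) * s * (b : ↥kk)⁻¹ := by group)
    have hf : Function.Bijective f := by
      refine ⟨?_, ?_⟩
      · intro p q
        induction p using QuotientGroup.induction_on with
        | H a =>
          induction q using QuotientGroup.induction_on with
          | H b =>
            intro e
            have e' : (a : ↥kk) * s * (a : ↥kk)⁻¹ = b * s * (b : ↥kk)⁻¹ := congrArg Subtype.val e
            rw [QuotientGroup.eq, mem_subgroupOf, mem_centralizer_singleton_iff]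
            simp only [Subgroup.coe_mul, Subgroup.coe_inv]
            calc (a : ↥kk)⁻¹ * b * s = (a : ↥kk)⁻¹ * (b * s * (b : ↥kk)⁻¹) * b := by group
              _ = (a : ↥kk)⁻¹ * (a * s * (a : ↥kk)⁻¹) * b := by rw [e']
              _ = s * ((a : ↥kk)⁻¹ * b) := by group
      · rintro ⟨y, h, hh, e⟩
        exact ⟨((⟨h, hh⟩ : ↥A) : ↥A ⧸ C), Subtype.ext e⟩
    rw [← Nat.card_coe_set_eq, ← Nat.card_congr (Equiv.ofBijective f hf), mul_comm,
      Subgroup.card_eq_card_quotient_mul_card_subgroup C]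
    congr 1
    exact Nat.card_congr ((subgroupOfEquivOfLe (inf_le_left : A ⊓ centralizer ({s} : Set ↥kk) ≤ A)).toEquiv.symm.trans
      (Equiv.cast (by rw [inf_comm, Subgroup.inf_subgroupOf_right])))

end OrbData

end CfsgLib.LyThree
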