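import Cfsg.Agent.Lib.LyThree.KSide
import Mathlib.GroupTheory.GroupAction.Quotient

/-!
# The action of `kk` on 3906 points
-/

set_option autoImplicit false
set_option maxRecDepth 100000

namespace CfsgLib.LyThree

open CfsgLib.LyGTwo MulAction

/-- The move of a letter on the points. -/
def pmove (g i : ℕ) : ℕ := lookT 18 tabThree i (if g < 5 then g + 9 else g - 5)

/-- The move of a word on the points. -/
def pwalk : List ℕ → ℕ → ℕ
  | [], i => i
  | g :: w, i => pmove g (pwalk w i)

theorem points_action : ∃ π : ↥kk →* Equiv.Perm (Fin 3906), ∀ g, g < 4 → ∀ i : Fin 3906,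
    (π (kv g) i).val = pmove g i.val ∧ ((π (kv g))⁻¹ i).val = pmove (g + 5) i.val := by
  obtain ⟨r1, r2, r3, i1, i2, i3⟩ := chks_ok
  set K0 := Subgroup.zpowers (stE kv ixOne 4)
  have hfive : (stE kv ixOne 4) ^ 5 = 1 := by
    have := relChk_sound kv kk_rels ixOne r1 [4, 4, 4, 4, 4] (by decide +kernel)
    simpa [pow_succ, mul_assoc] using this
  have c0 : Nat.card ↥K0 ≤ 5 := by
    rw [Nat.card_zpowers]
    exact orderOf_le_of_pow_eq_one (by norm_num) hfive
  obtain ⟨f1, c1⟩ := stage_bound certOne checkOne (by decide +kernel) (stE kv ixOne)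
    (fun g hg => (invChk_sound kv i1 hg).2) (fun g hg => (invChk_sound kv i1 hg).1)
    (relChk_sound kv kk_rels ixOne r1) K0 (by
      intro w hw
      obtain rfl : w = [4] := by
        have hs : certOne.subs = [[4]] := by decide +kernel
        rw [hs] at hw
        simpa using hw
      simp [K0])
  set K1 := Subgroup.closure (stE kv ixOne '' {g | g < certOne.ng})
  obtain ⟨f2, c2⟩ := stage_bound certTwo checkTwo (by decide +kernel) (stE kv ixTwo)
    (fun g hg => (invChk_sound kv i2 hg).2) (fun g hg => (invChk_sound kv i2 hg).1)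
    (relChk_sound kv kk_rels ixTwo r2) K1 (by
      have hs : certTwo.subs.all (fun w => match w with
          | [g] => (List.range certOne.ng).any fun h => decide (stW ixTwo g = stW ixOne h)
          | _ => false) = true := by decide +kernel
      intro w hw
      have h := List.all_eq_true.1 hs w hw
      split at h
      · rename_i g
        obtain ⟨k, hk, e⟩ := List.any_eq_true.1 h
        refine Subgroup.subset_closure ⟨k, List.mem_range.1 hk, ?_⟩
        simp [stE, of_decide_eq_true e]
      · simp at h)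
  set K2 := Subgroup.closure (stE kv ixTwo '' {g | g < certTwo.ng})
  set gen : ℕ → ↥kk := fun g => (stE kv ixThree g)⁻¹ with hgen
  obtain ⟨h0, hT⟩ := CosetCert.check_sound (gen := gen) (x₀ := ((1 : ↥kk) : ↥kk ⧸ K2)) checkThree
    (fun g hg => by rw [hgen]; simp only [(invChk_sound kv i3 hg).2])
    (fun w hw => by rw [hgen, act_inv, relChk_sound kv kk_rels ixThree r3 w hw, inv_one])
    (fun w hw => by
      have hs : certThree.subs.all (fun w => match w with
          | [g] => (List.range certTwo.ng).any fun h => decide (stW ixThree g = stW ixTwo h)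
          | _ => false) = true := by decide +kernel
      have h := List.all_eq_true.1 hs w hw
      split at h
      · rename_i g
        obtain ⟨k, hk, e⟩ := List.any_eq_true.1 h
        rw [hgen, act_inv, MulAction.Quotient.smul_coe, smul_eq_mul, mul_one, QuotientGroup.eq]
        simpa using Subgroup.subset_closure (k := stE kv ixTwo '' {g | g < certTwo.ng})
          ⟨k, List.mem_range.1 hk, by simp [stE, of_decide_eq_true e]⟩
      · simp at h)
  have hn : certOne.n = 625 ∧ certTwo.n = 480 ∧ certThree.n = 3906 := by decide +kernel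
  set φ : Fin 3906 → ↥kk ⧸ K2 := fun i =>
    CosetCert.pt certThree gen ((1 : ↥kk) : ↥kk ⧸ K2) i.val with hφ
  have hiv : ∀ g, g < 4 → certThree.iv g = g + 9 ∧ stE kv ixThree g = kv g := by
    have hs : (List.range 4).all (fun g =>
        decide (certThree.iv g = g + 9) && decide (stW ixThree g = [g])) = true := by
      decide +kernel
    intro g hg
    have h := List.all_eq_true.1 hs g (List.mem_range.2 hg)
    simp only [Bool.and_eq_true, decide_eq_true_eq] at h
    exact ⟨h.1, by simp [stE, h.2, prodV, letV, Nat.mod_eq_of_lt (show g < 10 by omega),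
      show g < 5 by omega]⟩
  have hng : certThree.ng = 18 := rfl
  have step : ∀ g, g < 4 → ∀ i : Fin 3906, pmove g i.val < 3906 ∧ pmove (g + 5) i.val < 3906 ∧
      (∀ h, kv g • φ i = φ ⟨pmove g i.val, h⟩) ∧ ∀ h, (kv g)⁻¹ • φ i = φ ⟨pmove (g + 5) i.val, h⟩ := by
    intro g hg i
    obtain ⟨a1, a2⟩ := hT i.val (g + 9) (by rw [hn.2.2]; exact i.isLt) (by omega)
    obtain ⟨b1, b2⟩ := hT i.val g (by rw [hn.2.2]; exact i.isLt) (by omega)
    rw [hn.2.2] at a1 b1
    have e1 : gen (g + 9) = kv g := by
      rw [hgen]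
      dsimp only
      rw [← (hiv g hg).1, (invChk_sound kv i3 (show g < certThree.ng by omega)).2, inv_inv,
        (hiv g hg).2]
    have e2 : gen g = (kv g)⁻¹ := by rw [hgen]; simp only [(hiv g hg).2]
    have p1 : pmove g i.val = certThree.tbl i.val (g + 9) := by
      rw [pmove, if_pos (by omega)]; rfl
    have p2 : pmove (g + 5) i.val = certThree.tbl i.val g := by
      rw [pmove, if_neg (by omega), Nat.add_sub_cancel]; rfl
    rw [e1] at a2
    rw [e2] at b2
    exact ⟨p1 ▸ a1, p2 ▸ b1, fun h => a2.trans (by simp only [hφ, p1]),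
      fun h => b2.trans (by simp only [hφ, p2])⟩
  have hsurj : Function.Surjective φ := by
    intro q
    induction q using QuotientGroup.induction_on with
    | H x =>
      suffices H : ∀ i, ∃ j, x • φ i = φ j by
        obtain ⟨j, hj⟩ := H ⟨0, by norm_num⟩
        refine ⟨j, ?_⟩
        rw [← hj, show φ ⟨0, by norm_num⟩ = ((1 : ↥kk) : ↥kk ⧸ K2) from h0,
          MulAction.Quotient.smul_coe, smul_eq_mul, mul_one]
      have hx : x ∈ Subgroup.closure (Set.range fun g : Fin 4 => kv g.val) :=
        kk_closure.symm ▸ Subgroup.mem_top x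
      induction hx using Subgroup.closure_induction'' with
      | mem y hy =>
        obtain ⟨g, rfl⟩ := hy
        exact fun i => ⟨_, ((step g g.isLt i).2.2.1) (step g g.isLt i).1⟩
      | inv_mem y hy =>
        obtain ⟨g, rfl⟩ := hy
        exact fun i => ⟨_, ((step g g.isLt i).2.2.2) (step g g.isLt i).2.1⟩
      | one => exact fun i => ⟨i, one_smul _ _⟩
      | mul y z _ _ hy hz =>
        intro i
        obtain ⟨j, hj⟩ := hz i
        obtain ⟨k, hk⟩ := hy j
        exact ⟨k, by rw [mul_smul, hj, hk]⟩
  have hcard : 3906 ≤ Nat.card (↥kk ⧸ K2) := by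
    have h := Subgroup.card_eq_card_quotient_mul_card_subgroup K2
    rw [kk_card] at h
    rw [hn.1] at c1
    rw [hn.2.1] at c2
    nlinarith
  have hbij : Function.Bijective φ := (Nat.bijective_iff_surjective_and_card φ).2
    ⟨hsurj, le_antisymm (by rw [Nat.card_fin]; exact hcard) (Nat.card_le_card_of_surjective φ hsurj)⟩
  let ψ := Equiv.ofBijective φ hbij
  refine ⟨(ψ.symm.permCongrHom).toMonoidHom.comp (MulAction.toPermHom ↥kk (↥kk ⧸ K2)), ?_⟩
  intro g hg i
  obtain ⟨a1, a2, a3, a4⟩ := step g hg i
  constructor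
  · show (ψ.symm (kv g • ψ i)).val = _
    rw [show ψ i = φ i from rfl, a3 a1, show φ ⟨pmove g i.val, a1⟩ = ψ ⟨pmove g i.val, a1⟩ from rfl,
      Equiv.symm_apply_apply]
  · rw [← map_inv]
    show (ψ.symm ((kv g)⁻¹ • ψ i)).val = _
    rw [show ψ i = φ i from rfl, a4 a2,
      show φ ⟨pmove (g + 5) i.val, a2⟩ = ψ ⟨pmove (g + 5) i.val, a2⟩ from rfl, Equiv.symm_apply_apply]

/-- The action. -/
noncomputable def pAct : ↥kk →* Equiv.Perm (Fin 3906) := points_action.choose

theorem pAct_word : ∀ {w : List ℕ}, kLet w = true → ∀ i : Fin 3906,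
    (pAct (Kw w) i).val = pwalk w i.val
  | [], _, i => by simp [Kw, pwalk]
  | g :: w, hw, i => by
    have hg := kLet_iff.1 hw g (List.mem_cons_self ..)
    have hw' : kLet w = true := kLet_iff.2 fun x hx => kLet_iff.1 hw x (List.mem_cons_of_mem _ hx)
    rw [pwalk, Kw, prodV_cons, map_mul, Equiv.Perm.mul_apply, ← pAct_word hw' i]
    rcases hg with h | h
    · rw [letV, if_pos (by omega), Nat.mod_eq_of_lt (by omega)]
      exact (points_action.choose_spec g h _).1
    · rw [letV, if_neg (by omega), Nat.mod_eq_of_lt (by omega), map_inv]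
      conv_rhs => rw [← Nat.sub_add_cancel h.1]
      exact (points_action.choose_spec (g - 5) (by omega) _).2

end CfsgLib.LyThree
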