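import Cfsg.Agent.Lib.LyThree.Cent
import Mathlib.GroupTheory.GroupAction.Iwasawa
import Mathlib.GroupTheory.GroupAction.MultipleTransitivity

/-!
# The centraliser in `kk` is simple modulo its centre
-/

set_option autoImplicit false
set_option maxRecDepth 200000

namespace CfsgLib.LyThree

open CfsgLib.LyGTwo MulAction Subgroup
open scoped Pointwise commutatorElement

/-- The conjugates of the root element used for generation, and their inverses. -/
def rootGens : List (List ℕ) :=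
  (rootConj.map fun c => c ++ zW ++ invW c) ++ (rootConj.map fun c => invW (c ++ zW ++ invW c))

/-- A word in the root conjugates. -/
def rootWord (l : List ℕ) : List ℕ := l.flatMap fun k => rootGens.getD k []

/-- The second element of the commutator. -/
def bTwo : List ℕ := tW ++ bW ++ invW tW

theorem cert_root : kSame (rootWord (genAsRoot.getD 0 [])) aW = true ∧
    kSame (rootWord (genAsRoot.getD 1 [])) bW = true ∧
    kSame (rootWord (genAsRoot.getD 2 [])) tW = true ∧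
    genAsRoot.all (fun l => l.all fun k => Nat.blt k 10) = true ∧ rootConj.length = 5 ∧
    ((zW :: rootConj).all fun c => kSame (c ++ xW) (xW ++ c)) = true ∧
    kSame (List.replicate 4 (bW ++ bTwo ++ invW bW ++ invW bTwo)).flatten zW = true ∧
    kSame (bW ++ zW ++ invW bW) zW = true ∧
    kSame (tW ++ zW ++ invW tW) (zW ++ zW) = true ∧ pwalk zW 0 = 0 ∧
    kSame (List.replicate 24 tW).flatten [] = true ∧ kLet zW = true := by
  refine ⟨?_, ?_, ?_, ?_, ?_, ?_, ?_, ?_, ?_, ?_, ?_, ?_⟩ <;> decide +kernel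

theorem cert_move : ((List.range 24).all fun k =>
    Nat.beq (k % 8) 0 || (Nat.blt (moveAt.getD k 0) 126 &&
      !Nat.beq (pwalk (List.replicate k tW).flatten (fixPts.getD (moveAt.getD k 0) 0))
        (fixPts.getD (moveAt.getD k 0) 0))) = true := by
  decide +kernel

/-- The fixed points as a type. -/
abbrev FixT : Type := {i : Fin 3906 // i ∈ fixFin}

noncomputable instance cxFix : MulAction ↥cx FixT where
  smul g p := ⟨(g : ↥kk) • p.1, cx_smul_fix g.2 p.2⟩
  one_smul p := Subtype.ext (one_smul ↥kk p.1)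
  mul_smul g h p := Subtype.ext (mul_smul (g : ↥kk) (h : ↥kk) p.1)

/-- The first point. -/
noncomputable def fz : FixT := ⟨0, zero_fix⟩

/-- The second point. -/
noncomputable def fe : FixT := ⟨8, eight_fix⟩

instance cxFix_trans : IsPretransitive ↥cx FixT := (isPretransitive_iff_base fz).2 fun p => by
  obtain ⟨g, hg, e⟩ := fix_orbit p.1 p.2
  exact ⟨⟨g, cgen_le hg⟩, Subtype.ext e⟩

theorem cxFix_two : IsMultiplyPretransitive ↥cx FixT 2 := by
  rw [is_two_pretransitive_iff]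
  have base : ∀ {a b : FixT}, a ≠ b → ∃ g : ↥cx, g • fz = a ∧ g • fe = b := by
    intro a b hab
    obtain ⟨g, hg⟩ := exists_smul_eq ↥cx fz a
    have hne : (g⁻¹ • b).1 ≠ 0 := fun h => hab <| by
      have : g⁻¹ • b = fz := Subtype.ext h
      rw [← hg, ← this, smul_inv_smul]
    obtain ⟨h, hh, e⟩ := fix_orbit_two _ (g⁻¹ • b).2 hne
    refine ⟨g * ⟨h, cgen_le hh.1⟩, ?_, ?_⟩
    · rw [mul_smul, show (⟨h, cgen_le hh.1⟩ : ↥cx) • fz = fz from
        Subtype.ext (mem_stabilizer_iff.1 hh.2), hg]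
    · rw [mul_smul, show (⟨h, cgen_le hh.1⟩ : ↥cx) • fe = g⁻¹ • b from Subtype.ext e, smul_inv_smul]
  intro a b c d h h'
  obtain ⟨g, g1, g2⟩ := base h
  obtain ⟨k, k1, k2⟩ := base h'
  exact ⟨k * g⁻¹, by rw [mul_smul, ← g1, inv_smul_smul, k1],
    by rw [mul_smul, ← g2, inv_smul_smul, k2]⟩

theorem stab_zero_gen : cx ⊓ stabilizer ↥kk (0 : Fin 3906) ≤ closure {Kw bW, Kw tW} := by
  set Y : Subgroup ↥kk := closure {Kw bW, Kw tW}
  have hY : Y ≤ cx ⊓ stabilizer ↥kk (0 : Fin 3906) := by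
    rw [closure_le]
    rintro y (rfl | rfl)
    exacts [⟨cgen_le bW_mem.1, bW_mem.2⟩, ⟨cgen_le tW_mem.1.1, tW_mem.1.2⟩]
  obtain ⟨S, hS, hmem⟩ := reach_orbit (gens := [bW, tW]) (by decide +kernel) Y
    (fun w hw => subset_closure (by
      simp only [List.mem_cons, List.not_mem_nil, or_false] at hw
      rcases hw with rfl | rfl <;> simp))
    (p := (8 : Fin 3906)) (l := decRows rowsFixTwo) cert_fix.2.2.1
  rw [decRows, List.length_map, cert_fix.2.2.2.1] at hS
  have h1 := card_orbit_mul Y (8 : Fin 3906)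
  have h2 : 125 ≤ {q | ∃ h ∈ Y, h • (8 : Fin 3906) = q}.ncard := by
    have := Set.ncard_le_ncard (s := (S : Set (Fin 3906)))
      (t := {q | ∃ h ∈ Y, h • (8 : Fin 3906) = q}) (fun q hq => hmem q hq) (Set.toFinite _)
    rwa [Set.ncard_coe_finset, hS] at this
  have h3 : 24 ≤ Nat.card ↥(Y ⊓ stabilizer ↥kk (8 : Fin 3906)) := by
    have hm : Kw tW ∈ Y ⊓ stabilizer ↥kk (8 : Fin 3906) := ⟨subset_closure (by simp), tW_mem.2⟩
    let f : Fin 24 → ↥(Y ⊓ stabilizer ↥kk (8 : Fin 3906)) := fun k => ⟨Kw tW ^ k.val, pow_mem hm _⟩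
    have := Nat.card_le_card_of_injective f fun a b e =>
      Fin.ext (tW_pow_inj a.isLt b.isLt (congrArg Subtype.val e))
    rwa [Nat.card_fin] at this
  obtain ⟨-, a2⟩ := orbit_counts cx cgen_le le_rfl
  rw [cx_two_eq] at a2
  refine (eq_of_le_of_card_ge hY ?_).ge
  rw [a2, ← h1]
  exact Nat.mul_le_mul h2 h3

/-- The root element in `cx`. -/
noncomputable def zc : ↥cx := ⟨Kw zW, mem_centralizer_singleton_iff.2 (by
  have := Kw_eq (List.all_eq_true.1 cert_root.2.2.2.2.2.1 zW (List.mem_cons_self ..))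
  rwa [Kw_append, Kw_append] at this)⟩

theorem norm_of_conj_mem {g : ↥kk} {H : Subgroup ↥kk} (h : ∀ n ∈ H, g * n * g⁻¹ ∈ H) :
    g ∈ normalizer (H : Set ↥kk) := by
  have hle : H.map (MulAut.conj g).toMonoidHom ≤ H := by
    rintro _ ⟨n, hn, rfl⟩
    exact h n hn
  have heq := eq_of_le_of_card_ge hle (by rw [card_map_of_injective (MulAut.conj g).injective])
  refine mem_normalizer_iff.2 fun n => ⟨h n, fun hn => ?_⟩
  obtain ⟨m, hm, e⟩ := heq.ge hn
  have : m = n := (MulAut.conj g).injective e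
  exact this ▸ hm

theorem zW_normalised {g : ↥kk} (hg : g ∈ cx ⊓ stabilizer ↥kk (0 : Fin 3906)) :
    g ∈ normalizer (zpowers (Kw zW) : Set ↥kk) := by
  refine (closure_le _).2 ?_ (stab_zero_gen hg)
  rintro y (rfl | rfl)
  all_goals
    refine norm_of_conj_mem fun n hn => ?_
    obtain ⟨k, rfl⟩ := mem_zpowers_iff.1 hn
  · rw [← conj_zpow, ← Kw_conj, Kw_eq cert_root.2.2.2.2.2.2.2.1]
    exact zpow_mem (mem_zpowers _) k
  · rw [← conj_zpow, ← Kw_conj, Kw_eq cert_root.2.2.2.2.2.2.2.2.1, Kw_append]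
    exact zpow_mem (mul_mem (mem_zpowers _) (mem_zpowers _)) k

/-- A transporter to a point. -/
noncomputable def toPt (p : FixT) : ↥cx := (exists_smul_eq ↥cx fz p).choose

theorem toPt_smul (p : FixT) : toPt p • fz = p := (exists_smul_eq ↥cx fz p).choose_spec

/-- The root groups. -/
noncomputable def rootT (p : FixT) : Subgroup ↥cx := MulAut.conj (toPt p) • zpowers zc

theorem zc_normalised {s : ↥cx} (hs : s • fz = fz) : MulAut.conj s • zpowers zc = zpowers zc := by
  have h := zW_normalised (g := (s : ↥kk)) ⟨s.2, mem_stabilizer_iff.2 (congrArg Subtype.val hs)⟩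
  rw [mem_normalizer_iff] at h
  have hz : ∀ n : ↥cx, n ∈ zpowers zc ↔ (n : ↥kk) ∈ zpowers (Kw zW) := fun n => by
    constructor
    · intro hn
      obtain ⟨k, rfl⟩ := mem_zpowers_iff.1 hn
      exact mem_zpowers_iff.2 ⟨k, rfl⟩
    · intro hn
      obtain ⟨k, e⟩ := mem_zpowers_iff.1 hn
      exact mem_zpowers_iff.2 ⟨k, Subtype.ext e⟩
  ext n
  rw [mem_pointwise_smul_iff_inv_smul_mem, hz, hz]
  rw [← map_inv, MulAut.smul_def, MulAut.conj_apply, Subgroup.coe_mul, Subgroup.coe_mul]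
  rw [h, inv_inv]
  simp [mul_assoc]

/-- The Iwasawa structure. -/
noncomputable def cxIwasawa : IwasawaStructure ↥cx FixT where
  T := rootT
  is_comm p := by
    refine ⟨⟨fun a b => Subtype.ext ?_⟩⟩
    obtain ⟨u, hu, e⟩ := a.2
    obtain ⟨v, hv, e'⟩ := b.2
    obtain ⟨i, rfl⟩ := mem_zpowers_iff.1 hu
    obtain ⟨j, rfl⟩ := mem_zpowers_iff.1 hv
    rw [Subgroup.coe_mul, Subgroup.coe_mul, ← e, ← e']
    exact (Commute.zpow_zpow_self zc i j).map (MulAut.conj (toPt p))
  is_conj g p := by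
    have h : ((g * toPt p)⁻¹ * toPt (g • p)) • fz = fz := by
      rw [mul_smul, toPt_smul, inv_smul_eq_iff, mul_smul, toPt_smul]
    rw [rootT, rootT, ← mul_smul, ← map_mul]
    conv_rhs => rw [← zc_normalised h, ← mul_smul, ← map_mul, mul_inv_cancel_left]
  is_generator := by
    apply map_injective cx.subtype_injective
    rw [← MonoidHom.range_eq_map, range_subtype]
    refine le_antisymm ?_ ?_
    · rintro _ ⟨n, -, rfl⟩; exact n.2
    refine le_of_eq_of_le cgen_eq.symm ?_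
    rw [cgen, closure_le]
    have hconj : ∀ c ∈ rootConj, Kw (c ++ zW ++ invW c) ∈ (iSup rootT).map cx.subtype := by
      intro c hc
      have hcm : Kw c ∈ cx := mem_centralizer_singleton_iff.2 (by
        have := Kw_eq (List.all_eq_true.1 cert_root.2.2.2.2.2.1 c (List.mem_cons_of_mem _ hc))
        rwa [Kw_append, Kw_append] at this)
      set p := (⟨Kw c, hcm⟩ : ↥cx) • fz with hp
      refine ⟨⟨Kw c, hcm⟩ * zc * (⟨Kw c, hcm⟩)⁻¹, mem_iSup_of_mem p ?_, ?_⟩
      · rw [rootT]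
        have h : ((toPt p)⁻¹ * ⟨Kw c, hcm⟩) • fz = fz := by
          rw [mul_smul, inv_smul_eq_iff, toPt_smul, hp]
        rw [mem_pointwise_smul_iff_inv_smul_mem, ← zc_normalised h, mem_pointwise_smul_iff_inv_smul_mem]
        have e : (MulAut.conj ((toPt p)⁻¹ * ⟨Kw c, hcm⟩))⁻¹ •
            (MulAut.conj (toPt p))⁻¹ • ((⟨Kw c, hcm⟩ : ↥cx) * zc * (⟨Kw c, hcm⟩)⁻¹) = zc := by
          simp only [← map_inv, MulAut.smul_def, MulAut.conj_apply]
          group
        rw [e]
        exact mem_zpowers _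
      · show _ = Kw (c ++ zW ++ invW c)
        rw [Kw_conj]
        rfl
    have hword : ∀ l : List ℕ, (∀ k ∈ l, k < 10) → Kw (rootWord l) ∈ (iSup rootT).map cx.subtype := by
      intro l hl
      induction l with
      | nil => exact one_mem _
      | cons k l ih =>
        rw [rootWord, List.flatMap_cons, Kw_append]
        refine mul_mem ?_ (ih fun j hj => hl j (List.mem_cons_of_mem _ hj))
        have hk := hl k (List.mem_cons_self ..)
        have hmem : rootGens.getD k [] ∈ rootGens := by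
          rw [List.getD_eq_getElem _ _ (by simp [rootGens, cert_root.2.2.2.2.1]; omega)]
          exact List.getElem_mem _
        rcases List.mem_append.1 hmem with h | h <;> obtain ⟨c, hc, e⟩ := List.mem_map.1 h <;> rw [← e]
        · exact hconj c hc
        · rw [Kw_inv]; exact inv_mem (hconj c hc)
    have hall := cert_root.2.2.2.1
    simp only [List.all_eq_true, Nat.blt_eq] at hall
    have hlen : genAsRoot.length = 3 := rfl
    rintro y (rfl | rfl | rfl)
    · rw [← Kw_eq cert_root.1]; exact hword _ (hall _ (by rw [List.getD_eq_getElem _ _ (by omega)]; exact List.getElem_mem _))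
    · rw [← Kw_eq cert_root.2.1]; exact hword _ (hall _ (by rw [List.getD_eq_getElem _ _ (by omega)]; exact List.getElem_mem _))
    · rw [← Kw_eq cert_root.2.2.1]; exact hword _ (hall _ (by rw [List.getD_eq_getElem _ _ (by omega)]; exact List.getElem_mem _))

theorem cx_perfect : commutator ↥cx = ⊤ := by
  rw [eq_top_iff, ← cxIwasawa.is_generator, iSup_le_iff]
  intro p
  have hn : (commutator ↥cx).Normal := inferInstance
  have hz : zc ∈ commutator ↥cx := by
    let bc : ↥cx := ⟨Kw bW, cgen_le bW_mem.1⟩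
    let tc : ↥cx := ⟨Kw tW, cgen_le tW_mem.1.1⟩
    have e : ⁅bc, tc * bc * tc⁻¹⁆ ^ 4 = zc := by
      refine Subtype.ext ?_
      show ((Kw bW) * (Kw tW * Kw bW * (Kw tW)⁻¹) * (Kw bW)⁻¹ * (Kw tW * Kw bW * (Kw tW)⁻¹)⁻¹) ^ 4 =
        Kw zW
      rw [← Kw_eq cert_root.2.2.2.2.2.2.1, Kw_replicate, Kw_append, Kw_append, Kw_append, Kw_inv,
        Kw_inv, bTwo, Kw_conj]
    rw [← e, _root_.commutator_def]
    exact pow_mem (commutator_mem_commutator (mem_top _) (mem_top _)) 4
  intro n hn'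
  change n ∈ rootT p at hn'
  rw [rootT, pointwise_smul_def] at hn'
  obtain ⟨m, hm, rfl⟩ := hn'
  obtain ⟨k, rfl⟩ := mem_zpowers_iff.1 hm
  exact hn.conj_mem _ (zpow_mem hz k) _

theorem xk_eq : xk = Kw tW ^ 8 := by
  rw [xk, ← Kw_eq cert_comm.2.1, Kw_replicate]

theorem cx_kernel {m : ↥kk} (hm : m ∈ cx) (hf : ∀ i ∈ fixFin, m • i = i) : m ∈ zpowers xk := by
  have h2 : m ∈ cx ⊓ stabilizer ↥kk (0 : Fin 3906) ⊓ stabilizer ↥kk (8 : Fin 3906) :=
    ⟨⟨hm, hf 0 zero_fix⟩, hf 8 eight_fix⟩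
  have ht : Kw tW ∈ cx ⊓ stabilizer ↥kk (0 : Fin 3906) ⊓ stabilizer ↥kk (8 : Fin 3906) :=
    ⟨⟨cgen_le tW_mem.1.1, tW_mem.1.2⟩, tW_mem.2⟩
  let f : Fin 24 → ↥(cx ⊓ stabilizer ↥kk (0 : Fin 3906) ⊓ stabilizer ↥kk (8 : Fin 3906)) :=
    fun k => ⟨Kw tW ^ k.val, pow_mem ht _⟩
  have hinj : Function.Injective f := fun a b e =>
    Fin.ext (tW_pow_inj a.isLt b.isLt (congrArg Subtype.val e))
  obtain ⟨k, hk⟩ := ((Nat.bijective_iff_injective_and_card f).2
    ⟨hinj, by rw [Nat.card_fin, cx_two_eq]⟩).2 ⟨m, h2⟩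
  have hk' : Kw tW ^ k.val = m := congrArg Subtype.val hk
  by_cases h8 : k.val % 8 = 0
  · exact mem_zpowers_iff.2 ⟨(k.val / 8 : ℕ), by
      rw [zpow_natCast, xk_eq, ← pow_mul, Nat.mul_div_cancel' (Nat.dvd_of_mod_eq_zero h8), hk']⟩
  · exfalso
    have h := List.all_eq_true.1 cert_move k.val (List.mem_range.2 k.isLt)
    simp only [Bool.or_eq_true, Nat.beq_eq, h8, false_or, Bool.and_eq_true, Nat.blt_eq,
      Bool.not_eq_true'] at h
    obtain ⟨hlt, hne⟩ := h
    set i := fixPts.getD (moveAt.getD k.val 0) 0 with hi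
    have hmem : i ∈ fixPts := by
      rw [hi, List.getD_eq_getElem _ _ (by rw [cert_pts.2.1]; exact hlt)]
      exact List.getElem_mem _
    have hi3 : i < 3906 := by
      rw [← cert_pts.1] at hmem
      exact List.mem_range.1 (List.mem_filter.1 hmem).1
    have := congrArg Fin.val (hf ⟨i, hi3⟩ (by simp [fixFin, hmem]))
    rw [← hk', ← Kw_replicate, word_smul (List.all_eq_true.1 cert_pow.2 _
      (List.mem_map.2 ⟨k.val, List.mem_range.2 k.isLt, rfl⟩))] at this
    rw [this, Nat.beq_refl] at hne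
    exact absurd hne (by decide)

theorem cx_simple (M : Subgroup ↥kk) (hx : zpowers xk ≤ M) (hM : M ≤ cx)
    (hn : ∀ u ∈ cx, ∀ m ∈ M, u * m * u⁻¹ ∈ M) : M = zpowers xk ∨ M = cx := by
  let N : Subgroup ↥cx := M.subgroupOf cx
  haveI : N.Normal := ⟨fun m hm g => hn g g.2 m hm⟩
  haveI : IsPreprimitive ↥cx FixT := isPreprimitive_of_is_two_pretransitive cxFix_two
  by_cases hfix : fixedPoints ↥N FixT = Set.univ
  · refine .inl (le_antisymm (fun m hm => cx_kernel (hM hm) fun i hi => ?_) hx)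
    have h : (⟨⟨m, hM hm⟩, hm⟩ : ↥N) • (⟨i, hi⟩ : FixT) = ⟨i, hi⟩ :=
      (hfix ▸ Set.mem_univ _ : (⟨i, hi⟩ : FixT) ∈ fixedPoints ↥N FixT) _
    exact congrArg Subtype.val h
  · refine .inr (le_antisymm hM ?_)
    have h := cxIwasawa.commutator_le N hfix
    rw [cx_perfect] at h
    exact fun g hg => h (mem_top (⟨g, hg⟩ : ↥cx))

end CfsgLib.LyThree
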